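import Cfsg.Agent.H77.TwE6Five.Cent
import Cfsg.Agent.H42.Radical.Model
import Cfsg.Agent.Linear.Generation

/-! The action of the elements commuting with the diagonal element on four root vectors: it maps the
subsystem of type `A₃` onto `SL₄(2)` and the diagonal element to a scalar. -/

set_option autoImplicit false
set_option maxRecDepth 100000
set_option linter.unusedSectionVars false

namespace Cfsg.Agent.H77.TwE6Five

open Cfsg.Lie Cfsg.Agent.H37 Cfsg.Agent.H37.RootSys Cfsg.Agent.H37.Twist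
open Cfsg.Agent.Chevalley (aMat xR)

/-- the four roots of the block -/
def blk : Fin 4 → Fin 72 := ![16, 57, 58, 61]

/-- the block as coordinates -/
def bI (i : Fin 4) : chevE6.Idx := Sum.inr (blk i)

theorem bI_inj : Function.Injective bI := fun i j h =>
  (show ∀ i j : Fin 4, blk i = blk j → i = j by decide) i j (Sum.inr.inj h)

/-- the position of the transvection of a root of the subsystem -/
def pos12 (r : ℕ) : Fin 4 × Fin 4 :=
  [(0, (0, 3)), (1, (0, 2)), (2, (0, 1)), (24, (1, 3)), (25, (2, 3)), (32, (1, 2)), (39, (2, 1)),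
    (46, (3, 2)), (47, (3, 1)), (69, (1, 0)), (70, (2, 0)), (71, ((3 : Fin 4), (0 : Fin 4)))].lookup r
    |>.getD (0, 0)

theorem blk_stable : ∀ r ∈ Z12, ∀ j : Fin 4,
    (∀ a : Fin 6, (∑ k ∈ Finset.range 4, aMat chevE6 r k (Sum.inl a) (bI j)) % 2 = 0) ∧
    ∀ u : Fin 72, (∑ k ∈ Finset.range 4, aMat chevE6 r k (Sum.inr u) (bI j)) % 2 =
      if u = blk j ∨ (u = blk (pos12 r).1 ∧ j = (pos12 r).2) then 1 else 0 := by
  decide +kernel

theorem pos12_surj : ∀ i j : Fin 4, i ≠ j → ∃ r ∈ Z12, pos12 r = (i, j) := by decide +kernel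

theorem pos12_ne : ∀ r ∈ Z12, (pos12 r).1 ≠ (pos12 r).2 := by decide +kernel

theorem blk_fv : ∀ j : Fin 4, ((3 * fv (blk j).val : ℤ) : ZMod 15) = 3 := by decide +kernel

variable {L : Type*} [Field L] [CharP L 2]

variable (L) in
/-- the elements preserving the block -/
def stabB : Submonoid (Grp L) where
  carrier := {g | ∀ x : chevE6.Idx, (∀ i, x ≠ bI i) → ∀ j : Fin 4,
    ((g : GL chevE6.Idx L) : Matrix chevE6.Idx chevE6.Idx L) x (bI j) = 0}
  one_mem' x hx j := Matrix.one_apply_ne (hx j)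
  mul_mem' {a b} ha hb x hx j := by
    show (((a : GL chevE6.Idx L) : Matrix chevE6.Idx chevE6.Idx L) *
      ((b : GL chevE6.Idx L) : Matrix chevE6.Idx chevE6.Idx L)) x (bI j) = 0
    rw [Matrix.mul_apply]
    refine Finset.sum_eq_zero fun y _ => ?_
    by_cases hy : ∀ i, y ≠ bI i
    · rw [hb y hy j, mul_zero]
    · push Not at hy
      obtain ⟨i, rfl⟩ := hy
      rw [ha x hx i, zero_mul]

theorem int_cast_two (n : ℤ) : (n : L) = ((n % 2 : ℤ) : L) := by
  conv_lhs => rw [← Int.emod_add_mul_ediv n 2]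
  rw [Int.cast_add, Int.cast_mul, show ((2 : ℤ) : L) = 0 by rw [Int.cast_ofNat]; exact CharTwo.two_eq_zero,
    zero_mul, add_zero]

theorem xr_entry {r : ℕ} (hr : r < chevE6.nroots) (x y : chevE6.Idx) :
    ((xr r (1 : L) : GL chevE6.Idx L) : Matrix chevE6.Idx chevE6.Idx L) x y =
      (((∑ k ∈ Finset.range 4, aMat chevE6 r k x y) % 2 : ℤ) : L) := by
  show (((QE L).K.xU L r 1 : GL chevE6.Idx L) : Matrix chevE6.Idx chevE6.Idx L) x y = _
  rw [(QE L).K.coe_xU, (QE L).K.x_eq hr, ← int_cast_two]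
  simp [xR]

theorem xr_stab {r : ℕ} (hr : r ∈ Z12) : xr r (1 : L) ∈ stabB L := by
  intro x hx j
  rw [xr_entry (Z12_facts r hr).1]
  obtain ⟨h1, h2⟩ := blk_stable r hr j
  rcases x with a | u
  · rw [h1 a, Int.cast_zero]
  · rw [h2 u, if_neg, Int.cast_zero]
    rintro (h | ⟨h, -⟩) <;> exact hx _ (congrArg Sum.inr h)

variable (e : Multiplicative (ZMod 15) ≃* Lˣ)

theorem h5_entry (x y : chevE6.Idx) :
    ((h5 e : GL chevE6.Idx L) : Matrix chevE6.Idx chevE6.Idx L) x y =
      if x = y then (match x with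
        | .inl _ => 1
        | .inr s => (ez e ((3 * fv s.val : ℤ) : ZMod 15) : L)) else 0 := by
  rw [h5_eq]
  show ((Chevalley.torus chevE6 L (hc e) : GL chevE6.Idx L) :
    Matrix chevE6.Idx chevE6.Idx L) x y = _
  by_cases hxy : x = y
  · subst hxy
    rw [if_pos rfl]
    rcases x with a | s
    · simp [Chevalley.torus, Chevalley.pe]
    · show _ = (ez e ((3 * fv s.val : ℤ) : ZMod 15) : L)
      rw [← chT_hc]
      simp [Chevalley.torus, Chevalley.pe, (QE L).K.pairing_simple, chT]
  · rw [if_neg hxy]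
    simp [Chevalley.torus, hxy]

theorem h5_stab : h5 e ∈ stabB L := by
  intro x hx j
  rw [h5_entry, if_neg (hx j)]

theorem Dset_stab [Finite L] : ∀ d ∈ Dset e, d ∈ stabB L := by
  have hinv : ∀ g ∈ stabB L, g⁻¹ ∈ stabB L := fun g hg => by
    obtain ⟨n, hn⟩ : ∃ n, orderOf g = n + 1 := ⟨orderOf g - 1, by have := orderOf_pos g; omega⟩
    rw [show g⁻¹ = g ^ n from inv_eq_of_mul_eq_one_right (by rw [← pow_succ', ← hn, pow_orderOf_eq_one])]
    exact pow_mem hg n
  let S : Subgroup (Grp L) := { stabB L with inv_mem' := fun {g} hg => hinv g hg }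
  have hle : Subgroup.zpowers (h5 e) ⊔ LZ L ≤ S := by
    refine sup_le (Subgroup.zpowers_le.2 (h5_stab e)) ((Subgroup.closure_le _).2 ?_)
    rintro _ ⟨r, hr, rfl⟩
    exact xr_stab hr
  exact fun d hd => hle (Dset_le e hd)

/-- the block of an element -/
def blockM : ↥(stabB L) →* Matrix (Fin 4) (Fin 4) L where
  toFun g := ((g.1 : GL chevE6.Idx L) : Matrix chevE6.Idx chevE6.Idx L).submatrix bI bI
  map_one' := Matrix.submatrix_one _ bI_inj
  map_mul' a b := by
    ext i j
    show (((a.1 : GL chevE6.Idx L) : Matrix chevE6.Idx chevE6.Idx L) *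
      ((b.1 : GL chevE6.Idx L) : Matrix chevE6.Idx chevE6.Idx L)) (bI i) (bI j) = _
    rw [Matrix.mul_apply, Matrix.mul_apply]
    refine (Finset.sum_of_injOn bI bI_inj.injOn (by simp) (fun y _ hy => ?_) fun k _ => rfl).symm
    have hy' : ∀ i, y ≠ bI i := fun i h => hy ⟨i, by simp, h.symm⟩
    rw [b.2 y hy' j, mul_zero]

theorem blockM_h5 : blockM ⟨h5 e, h5_stab e⟩ = (ez e 3 : L) • (1 : Matrix (Fin 4) (Fin 4) L) := by
  ext i j
  show ((h5 e : GL chevE6.Idx L) : Matrix chevE6.Idx chevE6.Idx L) (bI i) (bI j) = _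
  rw [h5_entry, Matrix.smul_apply, Matrix.one_apply]
  by_cases h : i = j
  · subst h
    rw [if_pos rfl, if_pos rfl]
    show (ez e ((3 * fv (blk i).val : ℤ) : ZMod 15) : L) = _
    rw [blk_fv]
    simp
  · rw [if_neg h, if_neg (fun h' => h (bI_inj h'))]
    simp

theorem blockM_xr {r : ℕ} (hr : r ∈ Z12) :
    blockM ⟨xr r (1 : L), xr_stab hr⟩ = Matrix.transvection (pos12 r).1 (pos12 r).2 (1 : L) := by
  ext i j
  show ((xr r (1 : L) : GL chevE6.Idx L) : Matrix chevE6.Idx chevE6.Idx L) (bI i) (bI j) = _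
  rw [xr_entry (Z12_facts r hr).1]
  refine (congrArg (fun z : ℤ => (z : L)) ((blk_stable r hr j).2 (blk i))).trans ?_
  have hinj : ∀ a b : Fin 4, blk a = blk b ↔ a = b :=
    fun a b => ⟨fun h => bI_inj (congrArg Sum.inr h), congrArg blk⟩
  have hne := pos12_ne r hr
  simp only [hinj, Matrix.transvection, Matrix.add_apply, Matrix.one_apply, Matrix.single_apply]
  by_cases h1 : i = j
  · subst h1
    simp [show ¬((pos12 r).1 = i ∧ (pos12 r).2 = i) from fun h => hne (h.1.trans h.2.symm)]
  · by_cases h2 : (pos12 r).1 = i ∧ (pos12 r).2 = j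
    · simp [h1, h2.1, h2.2]
    · simp only [h1, false_or, if_neg h2, if_false, zero_add]
      rw [if_neg (fun h => h2 ⟨h.1.symm, h.2.symm⟩), Int.cast_zero]

/-- the scalars of order five times `SL₄(2)` -/
noncomputable def jHom :
    Multiplicative (ZMod 5) × Matrix.SpecialLinearGroup (Fin 4) (ZMod 2) →* GL (Fin 4) L :=
  MonoidHom.toHomUnits
    { toFun := fun p => (ez e (3 * (p.1.toAdd.val : ZMod 15)) : L) •
        p.2.1.map (ZMod.castHom (dvd_refl 2) L)
      map_one' := by simp [ez_zero]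
      map_mul' := fun p q => by
        have h : ∀ a b : ZMod 5, (3 * ((a + b).val : ZMod 15)) = 3 * (a.val : ZMod 15) + 3 * (b.val : ZMod 15) := by
          decide
        rw [Prod.fst_mul, Prod.snd_mul, toAdd_mul, h, ez_add, Matrix.SpecialLinearGroup.coe_mul,
          Matrix.map_mul, Units.val_mul, Matrix.smul_mul, Matrix.mul_smul, smul_smul] }

theorem jHom_inj : Function.Injective (jHom e) := by
  refine (injective_iff_map_eq_one _).2 fun p hp => ?_
  have h : (ez e (3 * (p.1.toAdd.val : ZMod 15)) : L) • p.2.1.map (ZMod.castHom (dvd_refl 2) L) = 1 :=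
    congrArg Units.val hp
  have h00 := congrFun (congrFun h 0) 0
  rw [Matrix.smul_apply, Matrix.map_apply, Matrix.one_apply_eq, smul_eq_mul] at h00
  have hp1 : p.2.1 0 0 = 1 := by
    rcases (show ∀ a : ZMod 2, a = 0 ∨ a = 1 by decide) (p.2.1 0 0) with h' | h'
    · rw [h', map_zero, mul_zero] at h00; exact absurd h00 zero_ne_one
    · exact h'
  rw [hp1, map_one, mul_one] at h00
  have hz : p.1 = 1 := by
    have h2 : ez e (3 * (p.1.toAdd.val : ZMod 15)) = ez e 0 := by rw [ez_zero]; exact Units.ext h00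
    have h3 := ez_inj e h2
    exact Multiplicative.toAdd.injective
      ((show ∀ a : ZMod 5, 3 * (a.val : ZMod 15) = 0 → a = 0 by decide) _ h3)
  rw [h00, one_smul] at h
  refine Prod.ext hz (Matrix.SpecialLinearGroup.ext _ _ fun i j => ?_)
  refine (ZMod.castHom_injective L (n := 2)) ?_
  have := congrFun (congrFun h i) j
  rw [Matrix.map_apply] at this
  rw [this]
  by_cases hij : i = j
  · subst hij; simp
  · simp [hij]

theorem card_source :
    Nat.card (Multiplicative (ZMod 5) × Matrix.SpecialLinearGroup (Fin 4) (ZMod 2)) = 100800 := by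
  rw [Nat.card_prod, Nat.card_congr Multiplicative.toAdd, Nat.card_zmod,
    show Nat.card (Matrix.SpecialLinearGroup (Fin 4) (ZMod 2)) = 20160 from H42.Radical.phi_card]

/-- A homomorphism with at most 100800 source elements hitting the scalar and all transvections is
an isomorphism with the product. -/
theorem iso_of_hits {C : Type*} [Group C] [Finite C] (f : C →* GL (Fin 4) L)
    (hcard : Nat.card C ≤ 100800) (hs : ∃ c, (f c).1 = (ez e 3 : L) • (1 : Matrix (Fin 4) (Fin 4) L))
    (ht : ∀ i j : Fin 4, i ≠ j → ∃ c, (f c).1 = Matrix.transvection i j (1 : L)) :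
    Nonempty (C ≃* Multiplicative (ZMod 5) × Matrix.SpecialLinearGroup (Fin 4) (ZMod 2)) := by
  have hle : (jHom e).range ≤ f.range := by
    have hA : ∀ k : ℕ, ∀ a : Multiplicative (ZMod 5), a.toAdd.val = k →
        jHom e (a, 1) ∈ f.range := by
      intro k a ha
      obtain ⟨c, hc⟩ := hs
      refine ⟨c ^ k, Units.ext ?_⟩
      rw [map_pow, Units.val_pow_eq_pow_val, hc, smul_pow, one_pow, ← Units.val_pow_eq_pow_val,
        ← zpow_natCast, ez_zpow]
      show _ = (ez e (3 * (a.toAdd.val : ZMod 15)) : L) •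
        ((1 : Matrix.SpecialLinearGroup (Fin 4) (ZMod 2)).1.map (ZMod.castHom (dvd_refl 2) L))
      rw [ha, mul_comm]
      simp
    have hB : (⊤ : Subgroup (Matrix.SpecialLinearGroup (Fin 4) (ZMod 2))) ≤
        f.range.comap ((jHom e).comp (MonoidHom.inr _ _)) := by
      rw [← Linear.eq_top_of_transvection_mem (H := f.range.comap ((jHom e).comp (MonoidHom.inr _ _)))]
      intro i j hij c
      rcases (show ∀ a : ZMod 2, a = 0 ∨ a = 1 by decide) c with rfl | rfl
      · rw [show Matrix.SpecialLinearGroup.transvection hij (0 : ZMod 2) = 1 from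
          Matrix.SpecialLinearGroup.ext _ _ fun a b => by simp [Matrix.SpecialLinearGroup.transvection]]
        exact one_mem _
      · obtain ⟨x, hx⟩ := ht i j hij
        refine ⟨x, Units.ext (hx.trans ?_)⟩
        show _ = (ez e (3 * ((Multiplicative.toAdd (1 : Multiplicative (ZMod 5))).val : ZMod 15)) : L) •
          ((Matrix.SpecialLinearGroup.transvection hij (1 : ZMod 2)).1.map (ZMod.castHom (dvd_refl 2) L))
        ext a b
        simp [ez_zero, Matrix.SpecialLinearGroup.transvection, Matrix.transvection,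
          Matrix.one_apply, Matrix.single_apply]
        split_ifs <;> simp
    rintro _ ⟨⟨a, M⟩, rfl⟩
    rw [show (a, M) = (a, 1) * (1, M) by simp, map_mul]
    exact mul_mem (hA _ a rfl) (hB (Subgroup.mem_top M))
  have h1 : Nat.card ↥(jHom e).range = 100800 := by
    rw [← Nat.card_congr (MonoidHom.ofInjective (jHom_inj e)).toEquiv, card_source]
  have h2 : Nat.card ↥f.range ≤ Nat.card C :=
    Nat.card_le_card_of_surjective f.rangeRestrict f.rangeRestrict_surjective
  have : Finite ↥f.range := Finite.of_surjective f.rangeRestrict f.rangeRestrict_surjective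
  have h3 : Nat.card ↥(jHom e).range ≤ Nat.card ↥f.range :=
    Nat.card_le_card_of_injective _ (Subgroup.inclusion_injective hle)
  have heq : (jHom e).range = f.range := Subgroup.eq_of_le_of_card_ge hle (by omega)
  have hinj : Function.Injective f.rangeRestrict :=
    (f.rangeRestrict_surjective.bijective_of_nat_card_le (by omega)).1
  exact ⟨((MulEquiv.ofBijective f.rangeRestrict ⟨hinj, f.rangeRestrict_surjective⟩).trans
    (MulEquiv.subgroupCongr heq.symm)).trans (MonoidHom.ofInjective (jHom_inj e)).symm⟩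

end Cfsg.Agent.H77.TwE6Five
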