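import Cfsg.Agent.H77.TwE6Five.WeylData

/-! The stabiliser in the Weyl group of type `E₆` of an element of order five of the coroot lattice
modulo five. -/

set_option autoImplicit false
set_option maxRecDepth 100000
set_option maxHeartbeats 1000000

namespace Cfsg.Agent.H77.TwE6Five

open Cfsg.Lie Cfsg.Agent.H37
open Cfsg.Agent.H37.RootSys
open Cfsg.Agent.H51 Cfsg.Agent.H51.Tw

theorem ord6_mem : ∀ j : Fin 6, ∃ a : Fin 6, ord6.getD a.val 0 = j.val := by decide

variable {L : Type*} [Field L]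

/-- the data of the group -/
abbrev QW (L : Type*) [Field L] : Chev.Data chevE6 L := Chev.dataE6 L

theorem actT_eq (L : Type*) [Field L] {wd : List ℕ} (hw : ∀ a ∈ wd, a < 6) {r : ℕ}
    (hr : r < chevE6.nroots) : act6 wd r = actT wd r := by
  induction wd with
  | nil => rfl
  | cons a wd ih =>
    have hw' : ∀ b ∈ wd, b < 6 := fun b hb => hw b (by simp [hb])
    show chevE6.reflectRoot a (act6 wd r) = rT a (actT wd r)
    rw [← ih hw', rT_eq ⟨a, hw a (by simp)⟩ ⟨act6 wd r, act_lt (QW L) hw' hr⟩]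

theorem psF_act (L : Type*) [Field L] {wd : List ℕ} (hw : ∀ a ∈ wd, a < 6) {r s : ℕ}
    (hr : r < chevE6.nroots) (hs : s < chevE6.nroots) :
    psF (act6 wd r) (act6 wd s) = psF r s := by
  induction wd with
  | nil => rfl
  | cons a wd ih =>
    have hw' : ∀ b ∈ wd, b < 6 := fun b hb => hw b (by simp [hb])
    have h1 := act_lt (QW L) hw' hr
    have h2 := act_lt (QW L) hw' hs
    show psF (chevE6.reflectRoot a (act6 wd r)) (chevE6.reflectRoot a (act6 wd s)) = _
    rw [rT_eq ⟨a, hw a (by simp)⟩ ⟨act6 wd r, h1⟩, rT_eq ⟨a, hw a (by simp)⟩ ⟨act6 wd s, h2⟩]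
    have h := psF_inv
    simp only [List.all_eq_true, List.mem_range, beq_iff_eq] at h
    exact (h a (hw a (by simp)) _ h1 _ h2).trans (ih hw')

/-- Every element is the value of a word. -/
theorem exists_word6 (L : Type*) [Field L] (w : (QW L).X.M.Group) :
    ∃ u : List ℕ, (∀ a ∈ u, a < 6) ∧ Weyl.wOf (QW L).X.M u = w := by
  refine Sys.gen_induction (p := fun w => ∃ u : List ℕ, (∀ a ∈ u, a < 6) ∧
    Weyl.wOf (QW L).X.M u = w) ⟨[], by simp, by simp [Weyl.wOf]⟩ (fun i w hw => ?_) w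
  obtain ⟨u, hu, rfl⟩ := hw
  refine ⟨i.val :: u, fun a ha => ?_, ?_⟩
  · rcases List.mem_cons.1 ha with rfl | ha
    · exact i.isLt
    · exact hu a ha
  · rw [Weyl.wOf_cons, Weyl.gen, dif_pos i.isLt]

theorem mem_extend {f : ℕ → ℕ} {done : List ℕ} {j : ℕ} {P : List (List ℕ)} (hlt : f j < 72)
    (hfv : (fv (f j) - fv (chevE6.simple j)) % 5 = 0)
    (hps : ∀ a ∈ done, psF (f j) (f a) = psF (chevE6.simple j) (chevE6.simple a))
    (hP : done.map f ∈ P) : (done ++ [j]).map f ∈ extend done j P := by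
  refine List.mem_flatMap.2 ⟨_, hP, List.mem_map.2 ⟨f j, List.mem_filter.2
    ⟨List.mem_filter.2 ⟨List.mem_range.2 hlt, ?_⟩, ?_⟩, by simp⟩⟩
  · simpa using hfv
  simp only [List.all_eq_true, List.mem_range, beq_iff_eq]
  intro a ha
  rw [List.getD_eq_getElem _ _ (by simpa using ha), List.getElem_map, List.getD_eq_getElem _ _ ha]
  exact hps _ (List.getElem_mem ha)

theorem mem_leavesUpTo {f : ℕ → ℕ} (hlt : ∀ j < 6, f j < 72)
    (hfv : ∀ j < 6, (fv (f j) - fv (chevE6.simple j)) % 5 = 0)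
    (hps : ∀ j < 6, ∀ a < 6, psF (f j) (f a) = psF (chevE6.simple j) (chevE6.simple a)) :
    ∀ k, k ≤ 6 → (ord6.take k).map f ∈ leavesUpTo k
  | 0, _ => by simp [leavesUpTo]
  | k + 1, hk => by
    have hlen : k < ord6.length := by show k < 6; omega
    have hmem : ∀ a ∈ ord6, a < 6 := by decide
    have hj : ord6.getD k 0 < 6 := by
      rw [List.getD_eq_getElem _ _ hlen]; exact hmem _ (List.getElem_mem hlen)
    have e : ord6.take (k + 1) = ord6.take k ++ [ord6.getD k 0] := by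
      rw [List.take_succ_eq_append_getElem hlen, List.getD_eq_getElem _ _ hlen]
    rw [e, leavesUpTo]
    exact mem_extend (hlt _ hj) (hfv _ hj)
      (fun a ha => hps _ hj a (hmem a (List.mem_of_mem_take ha)))
      (mem_leavesUpTo hlt hfv hps k (by omega))

theorem take_six : ord6.take 6 = ord6 := by decide

attribute [local irreducible] leavesUpTo leafP w24 extend

/-- An element preserving the class modulo five of every root lies in the subsystem. -/
theorem stab_fv {w : (QW L).X.M.Group}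
    (hw : ∀ r, r < chevE6.nroots → (fv (img (QW L) w r) - fv r) % 5 = 0) :
    ∃ l ∈ w24, Weyl.wOf (QW L).X.M (wd3 l) = w := by
  obtain ⟨u, hu6, rfl⟩ := exists_word6 L w
  have hs : ∀ j : Fin 6, chevE6.simple j.val < chevE6.nroots := by decide +kernel
  have hi : ∀ r, r < chevE6.nroots → img (QW L) (Weyl.wOf (QW L).X.M u) r = act6 u r := fun r hr =>
    img_wOf hu6 hr
  set im : ℕ → ℕ := fun j => act6 u (chevE6.simple j) with him
  have hlt : ∀ j : Fin 6, im j.val < 72 := fun j => act_lt (QW L) hu6 (hs j)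
  have hmem : ord6.map im ∈ leavesUpTo 6 := by
    have := mem_leavesUpTo (f := im) (fun j hj => hlt ⟨j, hj⟩)
      (fun j hj => by
        have := hw _ (hs ⟨j, hj⟩)
        rwa [hi _ (hs ⟨j, hj⟩)] at this)
      (fun j hj a ha => psF_act L hu6 (hs ⟨j, hj⟩) (hs ⟨a, ha⟩)) 6 le_rfl
    rwa [take_six] at this
  obtain ⟨i, hi', e⟩ := List.getElem_of_mem hmem
  obtain ⟨hlen, hok⟩ := leaves_ok
  have hiP : i < leafP.length := hlen ▸ hi'
  have hb := List.all_eq_true.1 hok ((leavesUpTo 6)[i], leafP[i])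
    (List.mem_iff_getElem.2 ⟨i, by rw [List.length_zip]; exact lt_min hi' hiP, List.getElem_zip⟩)
  simp only [leafB, Bool.and_eq_true, Bool.or_eq_true, List.all_eq_true, decide_eq_true_eq,
    List.any_eq_true, List.contains_iff_mem, List.mem_range, bne_iff_ne] at hb
  rw [e] at hb
  obtain ⟨⟨hp, hpos'⟩, hgood'⟩ := hb
  have hconv : ∀ j, j < 6 → actT (leafP[i]) ((ord6.map im).getD j 0) =
      act6 (leafP[i]) ((ord6.map im).getD j 0) := fun j hj => by
    refine (actT_eq L hp ?_).symm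
    rw [List.getD_eq_getElem _ _ (by simpa [ord6] using hj), List.getElem_map]
    exact hlt ⟨_, (show ∀ a ∈ ord6, a < 6 by decide) _ (List.getElem_mem (h := by simpa [ord6] using hj))⟩
  set p := leafP[i] with hpdef
  have hpos : ∀ j : Fin 6, 36 ≤ act6 p ((ord6.map im).getD j.val 0) := fun j =>
    hconv j j.isLt ▸ hpos' j j.isLt
  have hgood : p.reverse ∈ w24.map wd3 ∨ ∃ j : Fin 6,
      act6 p ((ord6.map im).getD j.val 0) ≠ chevE6.simple (ord6.getD j.val 0) :=
    hgood'.imp_right fun ⟨j, hj, h⟩ => ⟨⟨j, hj⟩, fun e' => h ((hconv j hj).trans e')⟩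
  have him6 : ∀ a : Fin 6, (ord6.map im).getD a.val 0 = im (ord6.getD a.val 0) := fun a => by
    rw [List.getD_eq_getElem _ _ (by simp [ord6]), List.getElem_map,
      List.getD_eq_getElem _ _ (by simp [ord6])]
  have hpu : ∀ a ∈ p ++ u, a < 6 := fun a ha => (List.mem_append.1 ha).elim (hp a) (hu6 a)
  have happ : ∀ r, act6 p (act6 u r) = act6 (p ++ u) r := fun r => by
    simp [act6, Dat.act, List.foldr_append]
  have h1 : Weyl.wOf (QW L).X.M (p ++ u) = 1 := by
    by_contra hne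
    obtain ⟨j, hj, hneg⟩ := (QW L).X.good.exists_descent hne
    have hj6 : j < 6 := hj
    obtain ⟨a, ha⟩ := ord6_mem ⟨j, hj6⟩
    have := hpos a
    rw [him6, show ord6.getD a.val 0 = j from ha, him, happ,
      ← (show img (QW L) (Weyl.wOf (QW L).X.M (p ++ u)) (chevE6.simple j) = act6 (p ++ u) (chevE6.simple j) from img_wOf hpu (hs ⟨j, hj6⟩)), img_of_lt (QW L) _ (hs ⟨j, hj6⟩)] at this
    exact absurd hneg (not_lt.2 this)
  have hrev : ∀ p : List ℕ, Weyl.wOf (QW L).X.M p.reverse = (Weyl.wOf (QW L).X.M p)⁻¹ := by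
    intro p
    refine eq_inv_of_mul_eq_one_left ?_
    induction p with
    | nil => simp [Weyl.wOf]
    | cons a p ih =>
      rw [List.reverse_cons, Weyl.wOf_append, Weyl.wOf_singleton, Weyl.wOf_cons, mul_assoc,
        ← mul_assoc (Weyl.gen _ a), Weyl.gen_mul_self, one_mul, ih]
  rcases hgood with h | ⟨a, ha⟩
  · obtain ⟨l, hl, el⟩ := List.mem_map.1 h
    refine ⟨l, hl, ?_⟩
    rw [el, hrev]
    rw [Weyl.wOf_append] at h1
    exact inv_eq_of_mul_eq_one_right h1
  · refine absurd ?_ ha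
    have hlt6 : ord6.getD a.val 0 < 6 := (show ∀ a : Fin 6, ord6.getD a.val 0 < 6 by decide) a
    have hr := hs ⟨_, hlt6⟩
    rw [him6, him, happ, ← (show img (QW L) (Weyl.wOf (QW L).X.M (p ++ u)) (chevE6.simple (ord6.getD a.val 0)) = act6 (p ++ u) (chevE6.simple (ord6.getD a.val 0)) from img_wOf hpu hr),
      h1, img_of_lt (QW L) _ hr]
    simp

end Cfsg.Agent.H77.TwE6Five
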