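import Cfsg.Agent.H77.TwE6Five.Setup
import Cfsg.Agent.H77.TwE6Five.Weyl

/-! Over the field with sixteen elements: the elements commuting with the diagonal element of order
five and transformed by the endomorphism as by the reflection form a set of at most 100800 elements,
all products of the diagonal element and root elements at one of a subsystem of type `A₃`. -/

set_option autoImplicit false
set_option maxRecDepth 100000
set_option linter.unusedSectionVars false

namespace Cfsg.Agent.H77.TwE6Five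

open Cfsg.Lie Cfsg.Agent.H37 Cfsg.Agent.H37.RootSys Cfsg.Agent.H37.Twist
open Cfsg.Agent.H51 Cfsg.Agent.H51.Tw

/-- the roots orthogonal to the two roots of the torus element -/
def Z12 : List ℕ := [0, 1, 2, 24, 25, 32, 39, 46, 47, 69, 70, 71]

/-- the positive ones -/
def P6 : List ℕ := [39, 46, 47, 69, 70, 71]

theorem Z12_facts : ∀ k ∈ Z12, k < chevE6.nroots ∧ E6.tables.rh k = k ∧
    commB chevE6 [k, 56] = true ∧ commB chevE6 [k, 15] = true ∧ commB chevE6 [k, 36] = true ∧
    commB chevE6 [k, 35] = true := by decide +kernel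

theorem fv_zero_iff : ∀ r : Fin 72, ((3 * fv r.val : ℤ) : ZMod 15) = 0 ↔ r.val ∈ Z12 := by
  decide +kernel

theorem three_mul_cancel : ∀ a : ZMod 15, 3 * a = 0 → a.val % 5 = 0 := by decide

/-- the roots of `A₃` made negative by a product of the reflections -/
def vl (l : List (Fin 3)) : List ℕ :=
  (List.range' 0 72).filter fun r =>
    decide (36 ≤ r) && decide (act6 (wd3 l) r < 36) && decide (r ∈ Z12)

theorem P6_eq : ((List.range' 0 72).filter fun r => decide (36 ≤ r) && decide (r ∈ Z12)) = P6 := by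
  decide +kernel

theorem n3_root : ∀ i : Fin 3, ∃ c : List ℕ, ∃ j : Fin 6, (∀ a ∈ c, a < 6) ∧
    n3 i = c ++ [j.val] ++ c.reverse ∧ act6 c (chevE6.simple j.val) ∈ Z12 := by
  intro i
  refine ⟨![[], [], [4, 5, 2, 3, 4, 1, 3, 2]] i, ![1, 3, 0] i, ?_⟩
  revert i
  decide +kernel

/-- a certificate for the torus equations -/
def tY : List (List (ZMod 15)) :=
  [[0, 0, 5, 0, 10, 0], [0, 1, 0, 0, 0, 0], [0, 0, 2, 0, 14, 5],
    [0, 0, 0, 1, 0, 0], [0, 0, 4, 0, 12, 10], [0, 0, 10, 0, 5, 14]]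

/-- a certificate for the exponent of the first coordinate -/
def tY5 : List (ZMod 15) := [0, 0, 10, 0, 5, 0]

/-- the coefficient of an exponent in the equation of a root -/
def tE (r : ℕ) (m : Fin 6) : ZMod 15 :=
  ((2 * chevE6.cartan ([5, 1, 4, 3, 2, 0].getD m.val 0) r -
    chevE6.cartan m.val (chevE6.reflectRoot 0 r) : ℤ) : ZMod 15)

/-- the coefficient of the equation of a fundamental root in that of a root -/
def tC (r : ℕ) (i : Fin 6) : ZMod 15 :=
  ∑ j : Fin 6, ((Chevalley.cor chevE6 r j.val : ℤ) : ZMod 15) * (tY.getD j.val []).getD i.val 0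

theorem tE_cert : ∀ (r : Fin 72) (m : Fin 6),
    ((chevE6.cartan m.val r.val - 3 * fv r.val * chevE6.cartan m.val 56 : ℤ) : ZMod 15) =
      ∑ i : Fin 6, tC r.val i * tE (chevE6.simple i.val) m := by decide +kernel

theorem tE_cert5 : ∀ m : Fin 6, ((5 * chevE6.cartan m.val 56 : ℤ) : ZMod 15) =
    ∑ i : Fin 6, tY5.getD i.val 0 * tE (chevE6.simple i.val) m := by decide +kernel

theorem exists_six : ∀ a : ZMod 15, 5 * a = 0 → ∃ k : Fin 5, a = 6 * (k.val : ZMod 15) := by decide

variable {L : Type*} [Field L] [CharP L 2] (e : Multiplicative (ZMod 15) ≃* Lˣ)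

/-- the units as exponents -/
def ez (k : ZMod 15) : Lˣ := e (Multiplicative.ofAdd k)

theorem ez_add (a b : ZMod 15) : ez e (a + b) = ez e a * ez e b := by rw [ez, ofAdd_add, map_mul]; rfl

theorem ez_zero : ez e 0 = 1 := by rw [ez, ofAdd_zero, map_one]

theorem ez_inj {a b : ZMod 15} (h : ez e a = ez e b) : a = b := by simpa [ez] using h

theorem ez_zpow (a : ZMod 15) (n : ℤ) : ez e a ^ n = ez e ((n : ZMod 15) * a) := by
  rw [ez, ← map_zpow, ← ofAdd_zsmul, zsmul_eq_mul]; rfl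

theorem ez_sum {ι : Type*} (s : Finset ι) (f : ι → ZMod 15) :
    ez e (∑ i ∈ s, f i) = ∏ i ∈ s, ez e (f i) := by
  rw [ez, ofAdd_sum, map_prod]; rfl

/-- the fifth root of unity -/
def zt : Zeta L where
  z := (ez e 3 : L)
  pow_five := by
    rw [← Units.val_pow_eq_pow_val]
    refine Units.val_eq_one.2 ?_
    rw [← zpow_natCast, ez_zpow]
    exact ez_zero e
  ne_one := fun h => by
    have h1 : ez e 3 = ez e 0 := by rw [ez_zero]; exact Units.ext h
    exact absurd (ez_inj e h1) (by decide)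

/-- the diagonal element -/
noncomputable abbrev h5 : Grp L := (zt e).hh

variable (L) in
/-- the reflection -/
noncomputable abbrev nn : Grp L := psA L wm

/-- the parameters of the diagonal element -/
def hc : Fin chevE6.rank → Lˣ :=
  Pi.mulSingle ⟨0, by decide⟩ (ez e 3) * Pi.mulSingle ⟨5, by decide⟩ (ez e 3 ^ 2)

theorem h5_eq : h5 e = tG (QE L) (hc e) := by
  rw [hc, map_mul, tG_single, tG_single, h5, Zeta.hh, psA_dm, psB_dm,
    show chevE6.simple 0 = 56 by decide +kernel, show chevE6.simple 5 = 36 by decide +kernel,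
    Units.val_pow_eq_pow_val]
  rfl

theorem chT_mul (c c' : Fin chevE6.rank → Lˣ) (r : ℕ) : chT (c * c') r = chT c r * chT c' r := by
  simp [chT, mul_zpow, Finset.prod_mul_distrib]

theorem chT_single (i : Fin chevE6.rank) (t : Lˣ) (r : ℕ) :
    chT (Pi.mulSingle i t) r = t ^ chevE6.cartan i.val r := by
  rw [chT, Finset.prod_eq_single i (fun m _ hm => by rw [Pi.mulSingle_eq_of_ne hm, one_zpow])
    (by simp), Pi.mulSingle_eq_same]

theorem chT_hc (r : ℕ) : chT (hc e) r = ez e ((3 * fv r : ℤ) : ZMod 15) := by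
  rw [hc, chT_mul, chT_single, chT_single, ← zpow_natCast (ez e 3) 2, ← zpow_mul, ez_zpow, ez_zpow,
    ← ez_add]
  congr 1
  simp only [fv]
  push_cast
  ring

theorem chT_pow (c : Fin chevE6.rank → Lˣ) (k r : ℕ) : chT (c ^ k) r = chT c r ^ k := by
  induction k with
  | zero => simp [chT]
  | succ k ih => rw [pow_succ, chT_mul, ih, pow_succ]

theorem h5_conj {r : ℕ} (hr : r < chevE6.nroots) (t : L) :
    h5 e * xr r t * (h5 e)⁻¹ = xr r ((ez e ((3 * fv r : ℤ) : ZMod 15) : L) * t) := by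
  rw [h5_eq, ← chT_hc]
  exact tG_conj (QE L) (hc e) hr t

theorem tG_ext {c c' : Fin chevE6.rank → Lˣ}
    (h : ∀ r, r < chevE6.nroots → chT c r = chT c' r) : tG (QE L) c = tG (QE L) c' := by
  refine Subtype.ext ?_
  show Chevalley.torus chevE6 L c = Chevalley.torus chevE6 L c'
  show Chevalley.dU _ = Chevalley.dU _
  congr 1
  funext x
  rcases x with a | s
  · simp [Chevalley.pe]
  · have := h s s.isLt
    simpa [chT, Chevalley.pe, (QE L).K.pairing_simple] using this

theorem xr_zero {r : ℕ} (hr : r < chevE6.nroots) : xr r (0 : L) = 1 := (QE L).sys.x_zero' hr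

theorem xr_inv_one (r : ℕ) : (xr r (1 : L))⁻¹ = xr r 1 := by
  refine Subtype.ext ?_
  show ((QE L).K.xU L r 1)⁻¹ = (QE L).K.xU L r 1
  rw [(QE L).K.xU_inv, CharTwo.neg_eq]

variable (L) in
/-- the subgroup generated by the root elements at one of the subsystem -/
def LZ : Subgroup (Grp L) := Subgroup.closure {g | ∃ r ∈ Z12, g = xr r 1}

theorem xr_mem_LZ {r : ℕ} (hr : r ∈ Z12) : xr r (1 : L) ∈ LZ L :=
  Subgroup.subset_closure ⟨r, hr, rfl⟩

theorem LZ_comm {y : Grp L} (hy : y ∈ LZ L) (g : Matrix.SpecialLinearGroup (Fin 2) L) :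
    Commute y (psA L g) ∧ Commute y (psB L g) := by
  induction hy using Subgroup.closure_induction with
  | mem y hy =>
    obtain ⟨k, hk, rfl⟩ := hy
    obtain ⟨-, -, c1, c2, c3, c4⟩ := Z12_facts k hk
    exact ⟨psA_comm_of (fun t => commute_xG (QE L) c1 (by simp) (by simp) 1 t)
        (fun t => commute_xG (QE L) c2 (by simp) (by simp) 1 t) g,
      psB_comm_of (fun t => commute_xG (QE L) c3 (by simp) (by simp) 1 t)
        (fun t => commute_xG (QE L) c4 (by simp) (by simp) 1 t) g⟩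
  | one => exact ⟨Commute.one_left _, Commute.one_left _⟩
  | mul a b _ _ ha hb => exact ⟨ha.1.mul_left hb.1, ha.2.mul_left hb.2⟩
  | inv a _ ha => exact ⟨ha.1.inv_left, ha.2.inv_left⟩

theorem LZ_h5 {y : Grp L} (hy : y ∈ LZ L) : Commute y (h5 e) :=
  (LZ_comm hy _).1.mul_right (LZ_comm hy _).2

theorem LZ_sg2 {y : Grp L} (hy : y ∈ LZ L) : sg2 L y = y := by
  induction hy using Subgroup.closure_induction with
  | mem y hy =>
    obtain ⟨k, hk, rfl⟩ := hy
    rw [sg2_x (Z12_facts k hk).1, (Z12_facts k hk).2.1, one_pow]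
  | one => exact map_one _
  | mul a b _ _ ha hb => rw [map_mul, ha, hb]
  | inv a _ ha => rw [map_inv, ha]

theorem comm_XS_Z {A : Set ℕ} (hA : ∀ r ∈ A, r ∈ Z12) {g : Grp L} (hg : g ∈ XS (xG (QE L).K L) A)
    (s : Matrix.SpecialLinearGroup (Fin 2) L) : Commute g (psA L s) := by
  induction hg using Subgroup.closure_induction with
  | mem y hy =>
    obtain ⟨k, hk, u, rfl⟩ := hy
    obtain ⟨-, -, c1, c2, -, -⟩ := Z12_facts k (hA k hk)
    exact psA_comm_of (fun t => commute_xG (QE L) c1 (by simp) (by simp) u t)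
        (fun t => commute_xG (QE L) c2 (by simp) (by simp) u t) s
  | one => exact Commute.one_left _
  | mul a b _ _ ha hb => exact ha.mul_left hb
  | inv a _ ha => exact ha.inv_left

/-- all products of root elements at one along a list -/
noncomputable def prods : List ℕ → List (Grp L)
  | [] => [1]
  | k :: l => prods l ++ (prods l).map (xr k 1 * ·)

theorem length_prods : ∀ l : List ℕ, (prods (L := L) l).length = 2 ^ l.length
  | [] => rfl
  | k :: l => by simp [prods, length_prods l, pow_succ, mul_two]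

theorem prods_mem : ∀ l : List ℕ, (∀ r ∈ l, r ∈ Z12) → ∀ g ∈ prods (L := L) l, g ∈ LZ L
  | [], _, g, hg => by rw [prods, List.mem_singleton] at hg; rw [hg]; exact one_mem _
  | k :: l, hl, g, hg => by
    have ih := prods_mem l fun r hr => hl r (List.mem_cons_of_mem _ hr)
    rcases List.mem_append.1 hg with h | h
    · exact ih g h
    · obtain ⟨g', hg', rfl⟩ := List.mem_map.1 h
      exact mul_mem (xr_mem_LZ (hl k (List.mem_cons_self ..))) (ih g' hg')

/-- the rule of the positive system -/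
abbrev Y : Unip (Grp L) L := (QE L).sys.toUnip

/-- the elements of a closed set commuting with the diagonal element live on the subsystem -/
theorem supp {S : Finset ℕ} (hS : (Y (L := L)).Closed S) : ∀ m k, 72 ≤ k + m → ∀ g : Grp L,
    g ∈ XS (Y (L := L)).x {r | r ∈ S ∧ k ≤ r} → h5 e * g * (h5 e)⁻¹ = g →
      g ∈ XS (Y (L := L)).x {r | r ∈ S ∧ k ≤ r ∧ r ∈ Z12} := by
  have hlt : ∀ r ∈ S, r < 72 := fun r hr => by
    have := hS.1 hr
    rw [(QE L).sys.P_eq, mem_posSet] at this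
    exact this.1
  intro m
  induction m with
  | zero =>
    intro k hk g hg _
    have : g ∈ XS (Y (L := L)).x (∅ : Set ℕ) :=
      XS_mono (fun r hr => by have := hlt r hr.1; have := hr.2; omega) hg
    exact XS_mono (Set.empty_subset _) this
  | succ m ih =>
    intro k hk g hg hh
    have hsub : {r : ℕ | r ∈ S ∧ k + 1 ≤ r ∧ r ∈ Z12} ⊆ {r | r ∈ S ∧ k ≤ r ∧ r ∈ Z12} :=
      fun r hr => ⟨hr.1, Nat.le_of_succ_le hr.2.1, hr.2.2⟩
    by_cases hkS : k ∈ S
    · obtain ⟨t, p, hp, rfl⟩ := (Y (L := L)).exists_head hS hkS hg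
      have hk72 := hlt k hkS
      have hp' : h5 e * p * (h5 e)⁻¹ ∈ XS (Y (L := L)).x {r | r ∈ S ∧ k < r} :=
        conj_mem_XS (fun s hs u => by
          rw [show (Y (L := L)).x s u = xr s u from rfl, h5_conj e (hlt s hs.1)]
          exact x_mem_XS (x := (Y (L := L)).x) hs _) hp
      have e1 : (Y (L := L)).x k ((ez e ((3 * fv k : ℤ) : ZMod 15) : L) * t) *
          (h5 e * p * (h5 e)⁻¹) = (Y (L := L)).x k t * p := by
        rw [show (Y (L := L)).x k ((ez e ((3 * fv k : ℤ) : ZMod 15) : L) * t) =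
          h5 e * xr k t * (h5 e)⁻¹ from (h5_conj e hk72 t).symm]
        refine Eq.trans ?_ hh
        group
        rfl
      obtain ⟨ht, hpp⟩ := (Y (L := L)).head_unique hS hkS hp' hp e1
      refine mul_mem ?_ (XS_mono hsub (ih (k + 1) (by omega) p hp hpp))
      by_cases hkZ : k ∈ Z12
      · exact x_mem_XS (x := (Y (L := L)).x) (show k ∈ {r : ℕ | r ∈ S ∧ k ≤ r ∧ r ∈ Z12} from ⟨hkS, le_rfl, hkZ⟩) t
      · have ht0 : t = 0 := by
          by_contra h0
          have h1 := mul_right_cancel₀ h0 (ht.trans (one_mul t).symm)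
          exact hkZ ((fv_zero_iff ⟨k, hk72⟩).1 (ez_inj e ((Units.ext h1).trans (ez_zero e).symm)))
        rw [ht0, (Y (L := L)).x_zero (hS.1 hkS)]
        exact one_mem _
    · rw [Unip.tail_of_not_mem hkS] at hg
      exact XS_mono hsub (ih (k + 1) (by omega) g hg hh)

/-- the fixed ones are products of root elements at one -/
theorem fixed_form {S : Finset ℕ} (hS : (Y (L := L)).Closed S) : ∀ m k, k + m = 72 → ∀ g : Grp L,
    g ∈ XS (Y (L := L)).x {r | r ∈ S ∧ k ≤ r} → h5 e * g * (h5 e)⁻¹ = g → sg2 L g = g →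
      g ∈ prods ((List.range' k m).filter fun r => decide (r ∈ S) && decide (r ∈ Z12)) := by
  have hlt : ∀ r ∈ S, r < 72 := fun r hr => by
    have := hS.1 hr
    rw [(QE L).sys.P_eq, mem_posSet] at this
    exact this.1
  intro m
  induction m with
  | zero =>
    intro k hk g hg _ _
    have : g ∈ XS (Y (L := L)).x (∅ : Set ℕ) :=
      XS_mono (fun r hr => by have := hlt r hr.1; have := hr.2; omega) hg
    rw [XS_empty, Subgroup.mem_bot] at this
    simp [prods, this]
  | succ m ih =>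
    intro k hk g hg hh hσ
    have hg2 := supp e hS (m + 1) k (by omega) g hg hh
    rw [List.range'_succ, List.filter_cons]
    by_cases hkS : k ∈ S ∧ k ∈ Z12
    · obtain ⟨hkS, hkZ⟩ := hkS
      rw [if_pos (by simp [hkS, hkZ])]
      obtain ⟨t, p, hp, rfl⟩ := (Y (L := L)).exists_head hS hkS hg
      have hk72 := hlt k hkS
      have hp' : h5 e * p * (h5 e)⁻¹ = p := by
        have hx : h5 e * xr k t * (h5 e)⁻¹ = xr k t := by
          rw [h5_conj e hk72, (fv_zero_iff ⟨k, hk72⟩).2 hkZ, ez_zero, Units.val_one, one_mul]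
        have h1 : (h5 e * xr k t * (h5 e)⁻¹) * (h5 e * p * (h5 e)⁻¹) = xr k t * p :=
          Eq.trans (by group; rfl) hh
        rw [hx] at h1
        exact mul_left_cancel h1
      have hpZ := supp e hS m (k + 1) (by omega) p hp hp'
      have hσp : sg2 L p ∈ XS (Y (L := L)).x {r | r ∈ S ∧ k < r} :=
        (E6.endo (frobenius L 2)).σ_XS (A := {r : ℕ | r ∈ S ∧ k + 1 ≤ r ∧ r ∈ Z12})
          (fun r hr => ⟨(Z12_facts r hr.2.2).1, by
            rw [show (E6.endo (frobenius L 2)).s.T.rh r = r from (Z12_facts r hr.2.2).2.1]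
            exact (show r ∈ {r : ℕ | r ∈ S ∧ k < r} from ⟨hr.1, hr.2.1⟩)⟩) hpZ
      have e1 : (Y (L := L)).x k (t ^ 2) * sg2 L p = (Y (L := L)).x k t * p := by
        refine Eq.trans ?_ hσ
        rw [map_mul]
        congr 1
        exact ((sg2_x hk72 t).trans (by rw [(Z12_facts k hkZ).2.1]; rfl)).symm
      obtain ⟨ht, hpp⟩ := (Y (L := L)).head_unique hS hkS hσp hp e1
      have hprods := ih (k + 1) (by omega) p hp hp' hpp
      rw [prods, List.mem_append, List.mem_map]
      rcases mul_eq_zero.1 (show t * (t - 1) = 0 by linear_combination ht) with h0 | h0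
      · left
        rw [h0, (Y (L := L)).x_zero (hS.1 hkS), one_mul]
        exact hprods
      · exact Or.inr ⟨p, hprods, by rw [sub_eq_zero.1 h0]; rfl⟩
    · rw [if_neg (by simpa using hkS)]
      refine ih (k + 1) (by omega) g ((XS_mono (x := (Y (L := L)).x) (S' := {r : ℕ | r ∈ S ∧ k + 1 ≤ r})
        (S := {r : ℕ | r ∈ S ∧ k ≤ r ∧ r ∈ Z12}) fun r hr => ⟨hr.1, ?_⟩) hg2) hh hσ
      rcases Nat.eq_or_lt_of_le hr.2.1 with h | h
      · exact absurd ⟨h ▸ hr.1, h ▸ hr.2.2⟩ hkS
      · exact h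

theorem nG_sq (i : ℕ) : (RootSys.nG (QE L).K L i)⁻¹ = RootSys.nG (QE L).K L i := by
  show (nUG (QE L) (chevE6.simple i) 1)⁻¹ = nUG (QE L) (chevE6.simple i) 1
  rw [nUG_inv, CharTwo.neg_eq]

theorem nW_reverse (c : List ℕ) : nW (QE L) c.reverse = (nW (QE L) c)⁻¹ := by
  induction c with
  | nil => simp [nW]
  | cons a c ih =>
    rw [List.reverse_cons, nW_append, ih, show nW (QE L) (a :: c) = nW (QE L) [a] * nW (QE L) c
      by simp [nW], mul_inv_rev]
    congr 1
    simp [nW, nG_sq]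

theorem nW_conj_one {c : List ℕ} (hc : ∀ a ∈ c, a < 6) {r : ℕ} (hr : r < chevE6.nroots) (t : L) :
    nW (QE L) c * xr r t * (nW (QE L) c)⁻¹ = xr (act6 c r) t := by
  obtain ⟨s, hs, h⟩ := Tw.nW_conj (Q := QE L) hc hr
  refine (h t).trans ?_
  rcases hs with rfl | rfl <;> simp [CharTwo.neg_eq] <;> rfl

theorem nW_n3_mem (i : Fin 3) : nW (QE L) (n3 i) ∈ LZ L := by
  obtain ⟨c, j, hc, hn, hZ⟩ := n3_root i
  have hsj : chevE6.simple j.val < chevE6.nroots :=
    (show ∀ j : Fin 6, chevE6.simple j.val < chevE6.nroots by decide +kernel) j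
  have hnsj : chevE6.neg (chevE6.simple j.val) < chevE6.nroots := (QE L).K.neg_lt hsj
  have hZn : ∀ r ∈ Z12, chevE6.neg r ∈ Z12 := by decide +kernel
  have key : act6 c (chevE6.neg (chevE6.simple j.val)) ∈ Z12 := by
    have hh : ∀ r, r < chevE6.nroots → act6 c (chevE6.neg r) = chevE6.neg (act6 c r) := by
      intro r hr
      clear hn hZ
      induction c with
      | nil => rfl
      | cons a c ih =>
        have hc' : ∀ b ∈ c, b < 6 := fun b hb => hc b (by simp [hb])
        show chevE6.reflectRoot a (act6 c (chevE6.neg r)) = chevE6.neg (chevE6.reflectRoot a (act6 c r))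
        have h1 := act_lt (QE L) hc' hr
        have ha : a < chevE6.rank := hc a (by simp)
        rw [ih hc', (QE L).K.w_reflect a ha _ ((QE L).K.neg_lt h1),
          (QE L).K.w_reflect a ha (act6 c r) h1, (QE L).K.w_neg ha h1]
    rw [hh _ hsj]
    exact hZn _ hZ
  rw [hn, nW_append, nW_append, nW_reverse, show nW (QE L) [j.val] =
    nUG (QE L) (chevE6.simple j.val) 1 by simp [nW]; rfl, nUG_eq, inv_one, CharTwo.neg_eq,
    ← MulAut.conj_apply, map_mul, map_mul, MulAut.conj_apply, MulAut.conj_apply,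
    nW_conj_one hc hsj, nW_conj_one hc hnsj]
  exact mul_mem (mul_mem (xr_mem_LZ hZ) (xr_mem_LZ key)) (xr_mem_LZ hZ)

theorem nW_wd3_mem : ∀ l : List (Fin 3), nW (QE L) (wd3 l) ∈ LZ L
  | [] => by simp [wd3, nW]
  | i :: l => by
    rw [show wd3 (i :: l) = n3 i ++ wd3 l by simp [wd3], nW_append]
    exact mul_mem (nW_n3_mem i) (nW_wd3_mem l)

theorem wd3_lt (l : List (Fin 3)) : ∀ a ∈ wd3 l, a < 6 := by
  intro a ha
  simp only [wd3, List.mem_flatten, List.mem_map] at ha
  obtain ⟨w, ⟨i, -, rfl⟩, ha⟩ := ha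
  exact (show ∀ i : Fin 3, ∀ a ∈ n3 i, a < 6 by decide) i a ha

/-- A torus element transformed as by the reflection is a power of the diagonal element. -/
theorem torus_fixed {t : Grp L} (ht : t ∈ (QE L).sys.H) (hσ : sg2 L t = nn L * t * (nn L)⁻¹) :
    ∃ k : Fin 5, t = h5 e ^ k.val := by
  obtain ⟨c, rfl⟩ := exists_tG (QE L) ht
  obtain ⟨x, rfl⟩ : ∃ x : Fin chevE6.rank → ZMod 15, (fun m => ez e (x m)) = c :=
    ⟨fun m => (e.symm (c m)).toAdd, funext fun m => by simp [ez]⟩
  have hns : (E6.endo (frobenius L 2)).NoSign fun _ => 2 := E6.noSign fun t => frobenius_def ..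
  rw [sg2, (E6.endo (frobenius L 2)).σ_tG hns] at hσ
  set c : Fin chevE6.rank → Lˣ := fun m => ez e (x m) with hcdef
  set chi : ℕ → ZMod 15 := fun r => ∑ m : Fin 6, ((chevE6.cartan m.val r : ℤ) : ZMod 15) * x m with hchi
  have hch : ∀ r, chT c r = ez e (chi r) := fun r => by
    rw [hchi, ez_sum, chT]
    exact Finset.prod_congr rfl fun m _ => ez_zpow e _ _
  have hnw : nn L = nW (QE L) [0] := by
    show psA L wm = _
    rw [psA_wm]; simp [nW]; rfl
  have heq : ∀ r : Fin 72, ∑ m : Fin 6, tE r.val m * x m = 0 := by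
    intro r
    have h0 : ∀ a ∈ [0], a < 6 := by decide
    have hs := act_lt (QE L) h0 (show r.val < chevE6.nroots from r.isLt)
    have hinv : act6 [0] (act6 [0] r.val) = r.val :=
      (show ∀ r : Fin 72, act6 [0] (act6 [0] r.val) = r.val by decide +kernel) r
    have h1 : chT ((E6.endo (frobenius L 2)).hat (fun _ => 2) c) r.val = chT c (act6 [0] r.val) := by
      have ea := tG_conj (QE L) ((E6.endo (frobenius L 2)).hat (fun _ => 2) c)
        (show r.val < chevE6.nroots from r.isLt) (1 : L)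
      rw [hσ, show xG (QE L).K L r.val (1 : L) = nn L * xr (act6 [0] r.val) 1 * (nn L)⁻¹ by
        rw [hnw, nW_conj_one h0 hs, hinv],
        show nn L * tG (QE L) c * (nn L)⁻¹ * (nn L * xr (act6 [0] r.val) 1 * (nn L)⁻¹) *
          (nn L * tG (QE L) c * (nn L)⁻¹)⁻¹ =
          nn L * (tG (QE L) c * xr (act6 [0] r.val) 1 * (tG (QE L) c)⁻¹) * (nn L)⁻¹ by group,
        tG_conj (QE L) c hs 1, hnw, nW_conj_one h0 hs, hinv, mul_one, mul_one] at ea
      exact Units.ext (Twist.xG_inj (QE L) (show r.val < chevE6.nroots from r.isLt) ea).symm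
    rw [hch] at h1
    obtain ⟨a5, a0, a4, a2, a1, a3⟩ := E6.hat_six (φ := frobenius L 2) (q := 2) c
    have hhat : (E6.endo (frobenius L 2)).hat (fun _ => 2) c =
        fun m => ez e (2 * x ([5, 1, 4, 3, 2, 0].map (fun n => (n : Fin 6)) |>.getD m.val 0)) := by
      have hp : ∀ a : ZMod 15, ez e a ^ 2 = ez e (2 * a) := fun a => by
        rw [pow_two, ← ez_add, two_mul]
      refine E6.six_ext ?_ ?_ ?_ ?_ ?_ ?_
      · exact a0.trans (hp _)
      · exact a1.trans (hp _)
      · exact a2.trans (hp _)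
      · exact a3.trans (hp _)
      · exact a4.trans (hp _)
      · exact a5.trans (hp _)
    rw [hhat] at h1
    have h2 : ez e (∑ m : Fin 6, ((chevE6.cartan m.val r.val : ℤ) : ZMod 15) *
        (2 * x ([5, 1, 4, 3, 2, 0].map (fun n => (n : Fin 6)) |>.getD m.val 0))) =
        ez e (chi (act6 [0] r.val)) := by
      rw [← h1, ez_sum, chT]
      exact Finset.prod_congr rfl fun m _ => (ez_zpow e _ _).symm
    have h3 := ez_inj e h2
    simp only [hchi, Fin.sum_univ_six, tE] at h3 ⊢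
    simp [act6, Dat.act] at h3 ⊢
    linear_combination h3
  have hsimp : ∀ i : Fin 6, ∑ m : Fin 6, tE (chevE6.simple i.val) m * x m = 0 := fun i =>
    heq ⟨chevE6.simple i.val, (show ∀ i : Fin 6, chevE6.simple i.val < 72 by decide +kernel) i⟩
  have hcomb : ∀ a : Fin 6 → ZMod 15,
      ∑ m : Fin 6, (∑ i : Fin 6, a i * tE (chevE6.simple i.val) m) * x m = 0 := by
    intro a
    simp only [Finset.sum_mul]
    rw [Finset.sum_comm]
    refine Finset.sum_eq_zero fun i _ => ?_
    simp only [mul_assoc, ← Finset.mul_sum, hsimp, mul_zero]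
  have h56 : ∀ r : Fin 72, chi r.val = ((3 * fv r.val : ℤ) : ZMod 15) * chi 56 := by
    intro r
    have := hcomb (tC r.val)
    simp only [← tE_cert] at this
    simp only [hchi, Finset.mul_sum]
    rw [← sub_eq_zero, ← Finset.sum_sub_distrib, ← this]
    refine Finset.sum_congr rfl fun m _ => ?_
    push_cast
    ring
  have h5z : 5 * chi 56 = 0 := by
    have := hcomb fun i => tY5.getD i.val 0
    simp only [← tE_cert5] at this
    rw [← this, hchi, Finset.mul_sum]
    exact Finset.sum_congr rfl fun m _ => by push_cast; ring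
  obtain ⟨k, hk⟩ := exists_six _ h5z
  refine ⟨k, ?_⟩
  rw [h5_eq, ← map_pow]
  refine tG_ext fun r hr => ?_
  rw [hch, chT_pow, chT_hc, ← zpow_natCast, ez_zpow, h56 ⟨r, hr⟩, hk]
  congr 1
  have h18 : (18 : ZMod 15) = 3 := by decide
  push_cast
  linear_combination ((fv r : ZMod 15) * (k.val : ZMod 15)) * h18

/-- the centralised set -/
noncomputable def Dset : Subgroup (Grp L) :=
  Subgroup.centralizer {h5 e} ⊓ (sg2 L).eqLocus (MulAut.conj (nn L)).toMonoidHom

/-- parameters for the elements of the set -/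
abbrev Par : Type :=
  Fin 5 × Σ l : Fin w24.length, Fin (2 ^ P6.length) × Fin (2 ^ (vl w24[l.val]).length)

theorem card_Par : Fintype.card Par = 100800 := by
  rw [Fintype.card_prod, Fintype.card_sigma]
  simp only [Fintype.card_prod, Fintype.card_fin]
  decide +kernel

/-- the element with given parameters -/
noncomputable def param (p : Par) : Grp L :=
  (prods P6).getD p.2.2.1.val 1 * h5 e ^ p.1.val * nW (QE L) (wd3 w24[p.2.1.val]) *
    (prods (vl w24[p.2.1.val])).getD p.2.2.2.val 1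

theorem cell_unique' {w : (QE L).X.M.Group} {n u u' h h' v v' : Grp L}
    (hn : ∃ k ∈ (QE L).sys.H, n = k * (QE L).sys.rep w) (hu : u ∈ (QE L).sys.U)
    (hu' : u' ∈ (QE L).sys.U) (hh : h ∈ (QE L).sys.H) (hh' : h' ∈ (QE L).sys.H)
    (hv : v ∈ (QE L).sys.Uw w) (hv' : v' ∈ (QE L).sys.Uw w)
    (he : u * h * n * v = u' * h' * n * v') : u = u' ∧ h = h' ∧ v = v' := by
  obtain ⟨k, hk, rfl⟩ := hn
  obtain ⟨-, h1, h2, h3⟩ := (QE L).sys.normalForm.unique hu hu' (mul_mem hh hk) (mul_mem hh' hk)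
    hv hv' (show u * (h * k) * (QE L).sys.rep w * v = u' * (h' * k) * (QE L).sys.rep w * v' by
      simp only [mul_assoc] at he ⊢; exact he)
  exact ⟨h1, mul_right_cancel h2, h3⟩

/-- Every element of the set has parameters. -/
theorem exists_param {d : Grp L} (hd : d ∈ Dset e) : ∃ p, param e p = d := by
  obtain ⟨hc, hσ⟩ := Subgroup.mem_inf.1 hd
  rw [Subgroup.mem_centralizer_singleton_iff] at hc
  change sg2 L d = nn L * d * (nn L)⁻¹ at hσ
  set S := (QE L).sys
  obtain ⟨u, hu, h, hh, w, v, hv, e0⟩ := S.normalForm.exists_eq d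
  change u ∈ S.U at hu
  change h ∈ S.H at hh
  change v ∈ S.Uw w at hv
  change d = u * h * S.rep w * v at e0
  have hH : h5 e ∈ S.H := by rw [h5_eq]; exact tG_mem _ _
  have Hcomm : ∀ a ∈ S.H, ∀ b ∈ S.H, a * b = b * a := fun a ha b hb => by
    obtain ⟨ca, rfl⟩ := exists_tG (QE L) ha
    obtain ⟨cb, rfl⟩ := exists_tG (QE L) hb
    rw [← map_mul, mul_comm, map_mul]
  have hconjU : h5 e * u * (h5 e)⁻¹ ∈ S.U := S.H_conj_U hH hu
  have hconjV : h5 e * v * (h5 e)⁻¹ ∈ S.Uw w := conj_mem_XS (fun r hr t => by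
    obtain ⟨t', et⟩ := S.h_conj _ hH r (Sys.mem_flip.1 hr).1 t
    rw [et]; exact x_mem_XS hr t') hv
  obtain ⟨-, hu1, hk, hv1⟩ := S.normalForm.unique hconjU hu
    (mul_mem (mul_mem hH hh) (S.rep_conj_H w (inv_mem hH))) hh hconjV hv
    (show h5 e * u * (h5 e)⁻¹ * (h5 e * h * (S.rep w * (h5 e)⁻¹ * (S.rep w)⁻¹)) * S.rep w *
        (h5 e * v * (h5 e)⁻¹) = u * h * S.rep w * v by
      rw [← e0, show h5 e * u * (h5 e)⁻¹ * (h5 e * h * (S.rep w * (h5 e)⁻¹ * (S.rep w)⁻¹)) *
        S.rep w * (h5 e * v * (h5 e)⁻¹) = h5 e * (u * h * S.rep w * v) * (h5 e)⁻¹ by group, ← e0,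
        hc.symm, mul_inv_cancel_right])
  have hrep : Commute (h5 e) (S.rep w) := by
    rw [Hcomm _ hH _ hh, mul_assoc] at hk
    have h1 := mul_left_cancel (hk.trans (mul_one h).symm)
    rw [show h5 e * (S.rep w * (h5 e)⁻¹ * (S.rep w)⁻¹) =
      (h5 e * S.rep w) * (S.rep w * h5 e)⁻¹ by group, mul_inv_eq_one] at h1
    exact h1
  obtain ⟨wd, hwl6, hwd⟩ := exists_word6 L w
  obtain ⟨k, hkH, ek⟩ := Tw.nW_rep (Q := QE L) (wd := wd) hwl6
  have hnW : Commute (h5 e) (nW (QE L) wd) := by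
    rw [ek, hwd]
    exact Commute.mul_right (Hcomm _ hH _ hkH) hrep
  obtain ⟨l, hl, hlw⟩ := stab_fv (L := L) (w := w) fun r hr => by
    have hr' := act_lt (QE L) hwl6 hr
    rw [← hwd, img_wOf (Q := QE L) hwl6 hr]
    have e1 : h5 e * xr (act6 wd r) 1 * (h5 e)⁻¹ =
        xr (act6 wd r) (ez e ((3 * fv r : ℤ) : ZMod 15) : L) := by
      rw [← nW_conj_one hwl6 hr (1 : L),
        show h5 e * (nW (QE L) wd * xr r 1 * (nW (QE L) wd)⁻¹) * (h5 e)⁻¹ =
          h5 e * nW (QE L) wd * xr r 1 * (h5 e * nW (QE L) wd)⁻¹ by group, hnW.eq,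
        show nW (QE L) wd * h5 e * xr r 1 * (nW (QE L) wd * h5 e)⁻¹ =
          nW (QE L) wd * (h5 e * xr r 1 * (h5 e)⁻¹) * (nW (QE L) wd)⁻¹ by group,
        h5_conj e hr, mul_one, nW_conj_one hwl6 hr]
    rw [h5_conj e hr', mul_one] at e1
    have e2 := ez_inj e (Units.ext (Twist.xG_inj (QE L) hr' e1))
    rw [ZMod.intCast_eq_intCast_iff_dvd_sub] at e2
    show (fv (Dat.act chevE6 wd r) - fv r) % 5 = 0
    omega
  obtain ⟨k', hk'H, ek'⟩ := Tw.nW_rep (Q := QE L) (wd := wd3 l) (wd3_lt l)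
  rw [show Weyl.wOf (QE L).X.M (wd3 l) = w from hlw] at ek'
  set N := nW (QE L) (wd3 l) with hN
  have hNZ : N ∈ LZ L := nW_wd3_mem l
  set h' := h * k'⁻¹ with hh'
  have h'H : h' ∈ S.H := mul_mem hh (inv_mem hk'H)
  have e3 : d = u * h' * N * v := by rw [e0, hh', ek']; group; rfl
  have hflip : ∀ r, r ∈ Sys.flip (QE L).X.good w ↔ (r < 72 ∧ 36 ≤ r ∧ act6 (wd3 l) r < 36) := by
    intro r
    rw [Sys.mem_flip]
    constructor
    · rintro ⟨hr, h1, h2⟩
      refine ⟨hr, h1, ?_⟩
      rwa [← img_of_lt (QE L) _ hr, ← hlw, img_wOf (Q := QE L) (wd3_lt l) hr] at h2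
    · rintro ⟨hr, h1, h2⟩
      refine ⟨hr, h1, ?_⟩
      rwa [← img_of_lt (QE L) _ hr, ← hlw, img_wOf (Q := QE L) (wd3_lt l) hr]
  have hPc : (Y (L := L)).Closed (Y (L := L)).P := (Y (L := L)).closed_P
  have huS : u ∈ XS (Y (L := L)).x {r | r ∈ (Y (L := L)).P ∧ 0 ≤ r} :=
    (XS_mono (x := (Y (L := L)).x) (S := ↑(posSet chevE6)) (S' := {r | r ∈ (Y (L := L)).P ∧ 0 ≤ r})
      fun r hr => ⟨S.P_eq ▸ hr, Nat.zero_le r⟩) hu
  have hvS : v ∈ XS (Y (L := L)).x {r | r ∈ Sys.flip (QE L).X.good w ∧ 0 ≤ r} :=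
    (XS_mono (x := (Y (L := L)).x) (S := ↑(Sys.flip (QE L).X.good w))
      (S' := {r | r ∈ Sys.flip (QE L).X.good w ∧ 0 ≤ r}) fun r hr => ⟨hr, Nat.zero_le r⟩) hv
  have huZ := supp e hPc 72 0 le_rfl u huS hu1
  have hvZ := supp e (S.closed_flip w) 72 0 le_rfl v hvS hv1
  have hun : Commute u (nn L) := comm_XS_Z (fun r hr => hr.2.2) huZ wm
  have hvn : Commute v (nn L) := comm_XS_Z (fun r hr => hr.2.2) hvZ wm
  have hσv : sg2 L v ∈ S.Uw w :=
    (E6.endo (frobenius L 2)).σ_XS (fun r hr => ⟨(Z12_facts r hr.2.2).1, by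
      rw [show (E6.endo (frobenius L 2)).s.T.rh r = r from (Z12_facts r hr.2.2).2.1]
      exact hr.1⟩) hvZ
  have hnH : nn L * h' * (nn L)⁻¹ ∈ S.H := by
    rw [show nn L = S.ns 0 by show psA L wm = _; rw [psA_wm]; rfl]
    exact S.n_conj_H 0 (show 0 < 6 by omega) _ h'H
  obtain ⟨hσu, hσh, hσv'⟩ := cell_unique' ⟨k', hk'H, ek'⟩
    ((E6.endo (frobenius L 2)).σ_U hu) hu ((E6.endo (frobenius L 2)).σ_h h'H) hnH hσv hv
    (show sg2 L u * sg2 L h' * N * sg2 L v = u * (nn L * h' * (nn L)⁻¹) * N * v by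
      have hNn : Commute N (nn L) := (LZ_comm hNZ wm).1
      calc sg2 L u * sg2 L h' * N * sg2 L v = sg2 L d := by
            rw [e3, map_mul (sg2 L) (u * h' * N), map_mul (sg2 L) (u * h'), map_mul (sg2 L) u, LZ_sg2 hNZ]
        _ = nn L * (u * h' * N * v) * (nn L)⁻¹ := by rw [hσ, e3]
        _ = (nn L * u) * h' * N * (v * (nn L)⁻¹) := by group
        _ = (u * nn L) * h' * N * ((nn L)⁻¹ * v) := by rw [hun.eq, hvn.inv_right.eq]
        _ = u * (nn L * h') * (N * (nn L)⁻¹) * v := by group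
        _ = u * (nn L * h') * ((nn L)⁻¹ * N) * v := by rw [hNn.inv_right.eq]
        _ = _ := by group)
  obtain ⟨kk, hkk⟩ := torus_fixed e h'H hσh
  have fu := fixed_form e hPc 72 0 rfl u huS hu1 hσu
  have fv' := fixed_form e (S.closed_flip w) 72 0 rfl v hvS hv1 hσv'
  rw [show ((List.range' 0 72).filter fun r => decide (r ∈ (Y (L := L)).P) && decide (r ∈ Z12)) = P6 by
    rw [← P6_eq]
    refine List.filter_congr fun r hr => ?_
    have hr' : r < 72 := by simpa using hr
    congr 1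
    rw [decide_eq_decide, S.P_eq, mem_posSet]
    exact ⟨fun h => h.2, fun h => ⟨hr', h⟩⟩] at fu
  rw [show ((List.range' 0 72).filter fun r =>
      decide (r ∈ Sys.flip (QE L).X.good w) && decide (r ∈ Z12)) = vl l by
    refine List.filter_congr fun r hr => ?_
    have hr' : r < 72 := by simpa using hr
    congr 1
    rw [← Bool.decide_and, decide_eq_decide, hflip]
    exact ⟨fun h => h.2, fun h => ⟨hr', h⟩⟩] at fv'
  obtain ⟨li, hli, el⟩ := List.getElem_of_mem hl
  obtain ⟨iu, hiu, eu⟩ := List.getElem_of_mem fu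
  obtain ⟨iv, hiv, ev⟩ := List.getElem_of_mem fv'
  subst el
  refine ⟨⟨kk, ⟨⟨li, hli⟩, ⟨iu, by rwa [← length_prods (L := L)]⟩,
    ⟨iv, by rwa [← length_prods (L := L)]⟩⟩⟩, ?_⟩
  rw [param, List.getD_eq_getElem _ _ hiu, List.getD_eq_getElem _ _ hiv, eu, ev, ← hkk, e3]

theorem card_Dset_le : Nat.card ↥(Dset e) ≤ 100800 := by
  classical
  choose f hf using fun d : ↥(Dset e) => exists_param e d.2
  have hinj : Function.Injective f := fun a b h => Subtype.ext (by rw [← hf a, ← hf b, h])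
  refine (Nat.card_le_card_of_injective f hinj).trans ?_
  rw [Nat.card_eq_fintype_card, card_Par]

/-- The set lies in the subgroup generated by the diagonal element and the subsystem. -/
theorem Dset_le : Dset e ≤ Subgroup.zpowers (h5 e) ⊔ LZ L := by
  intro d hd
  obtain ⟨p, rfl⟩ := exists_param e hd
  have hL : LZ L ≤ Subgroup.zpowers (h5 e) ⊔ LZ L := le_sup_right
  have hvlZ : ∀ r ∈ vl w24[p.2.1.val], r ∈ Z12 := fun r hr => by
    simp only [vl, List.mem_filter, Bool.and_eq_true, decide_eq_true_eq] at hr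
    exact hr.2.2
  refine mul_mem (mul_mem (mul_mem ?_ ?_) (hL (nW_wd3_mem _))) ?_
  · rcases lt_or_ge p.2.2.1.val (prods (L := L) P6).length with h | h
    · rw [List.getD_eq_getElem _ _ h]
      exact hL (prods_mem P6 (by decide) _ (List.getElem_mem h))
    · rw [List.getD_eq_default _ _ h]; exact one_mem _
  · exact pow_mem (Subgroup.mem_sup_left (Subgroup.mem_zpowers _)) _
  · rcases lt_or_ge p.2.2.2.val (prods (L := L) (vl w24[p.2.1.val])).length with h | h
    · rw [List.getD_eq_getElem _ _ h]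
      exact hL (prods_mem _ hvlZ _ (List.getElem_mem h))
    · rw [List.getD_eq_default _ _ h]; exact one_mem _

end Cfsg.Agent.H77.TwE6Five
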