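import Cfsg.Agent.H77.TwE6Five.Block
import Cfsg.Agent.H27.EightPoints

/-! `²E₆(2)`: the centraliser of an element of order five is the product of a cyclic group of order
five and the alternating group of degree eight. -/

set_option autoImplicit false
set_option maxRecDepth 100000
set_option linter.unusedSectionVars false

namespace Cfsg.Agent.H77.TwE6Five

open Cfsg.Lie Cfsg.Agent.H37 Cfsg.Agent.H37.RootSys Cfsg.Agent.H37.Twist Cfsg.Agent.H37.NormalForm
open Cfsg.Agent.H87 (upMat lowMat)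

/-- the field with sixteen elements -/
abbrev L16 : Type := GaloisField 2 4

theorem exists_exp : Nonempty (Multiplicative (ZMod 15) ≃* L16ˣ) := by
  have h : Nat.card L16ˣ = 15 := by
    rw [Nat.card_units, GaloisField.card 2 4 (by norm_num)]; norm_num
  exact ⟨zmodMulEquivOfGenerator (g := (IsCyclic.exists_generator (α := L16ˣ)).choose)
    (IsCyclic.exists_generator (α := L16ˣ)).choose_spec h⟩

variable {K : Type*} [Field K] [Fintype K]

theorem exists_hom (hK : Fintype.card K = 4) : Nonempty (K →+* L16) := by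
  have := charP_two hK
  let := ZMod.algebra K 2
  have h1 : Module.finrank (ZMod 2) K = 2 := by
    have h := Module.card_eq_pow_finrank (K := ZMod 2) (V := K)
    rw [hK, ZMod.card] at h
    exact Nat.pow_right_injective le_rfl (h.symm.trans (by norm_num : (4 : ℕ) = 2 ^ 2))
  obtain ⟨f⟩ := FiniteField.nonempty_algHom_of_finrank_dvd (F := ZMod 2) (K := K) (L := L16)
    (by rw [h1, GaloisField.finrank 2 (by norm_num)]; norm_num)
  exact ⟨f.toRingHom⟩

theorem exists_om (hK : Fintype.card K = 4) (i : K →+* L16) (e : Multiplicative (ZMod 15) ≃* L16ˣ) :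
    ∃ a : K, i a = (zt e).om := by
  have := charP_two hK
  classical
  obtain ⟨b, hb0, hb1⟩ : ∃ b : K, b ≠ 0 ∧ b ≠ 1 := by
    by_contra hcon
    push Not at hcon
    have : (Finset.univ : Finset K) ⊆ {0, 1} := fun x _ => by
      simp only [Finset.mem_insert, Finset.mem_singleton]
      exact or_iff_not_imp_left.2 (hcon x)
    have := (Finset.card_le_card this).trans Finset.card_le_two
    rw [Finset.card_univ, hK] at this
    omega
  have h3 : b ^ 3 = 1 := by simpa [hK] using FiniteField.pow_card_sub_one_eq_one b hb0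
  have hb : b ^ 2 + b + 1 = 0 :=
    (mul_eq_zero.1 (show (b - 1) * (b ^ 2 + b + 1) = 0 by linear_combination h3)).resolve_left
      (sub_ne_zero.2 hb1)
  have hi : (i b) ^ 2 + i b + 1 = 0 := by simpa using congrArg i hb
  have hw := (zt e).om_rel
  have h2 : (2 : L16) = 0 := CharTwo.two_eq_zero
  have hp : ((zt e).om - i b) * ((zt e).om - (i b + 1)) = 0 := by
    linear_combination hw + hi + (-(zt e).om - (zt e).om * i b - 1) * h2
  rcases mul_eq_zero.1 hp with h | h
  · exact ⟨b, (sub_eq_zero.1 h).symm⟩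
  · exact ⟨b + 1, by rw [map_add, map_one]; exact (sub_eq_zero.1 h).symm⟩

/-- the map of the groups along a homomorphism of fields -/
noncomputable def mG (i : K →+* L16) : Grp K →* Grp L16 :=
  ((Matrix.GeneralLinearGroup.map i).comp (chevE6.group K).subtype).codRestrict _
    fun g => (QE K).K.map_mem_group i g.2

theorem mG_xr (i : K →+* L16) (r : ℕ) (t : K) : mG i (xr r t) = xr r (i t) :=
  Subtype.ext ((QE K).K.map_xU i r t)

theorem mG_inj (i : K →+* L16) : Function.Injective (mG i) := fun a b h => by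
  have h' := congrArg (fun g : Grp L16 => ((g : GL chevE6.Idx L16) :
    Matrix chevE6.Idx chevE6.Idx L16)) h
  exact Subtype.ext (Units.ext (Matrix.ext fun x y => i.injective (congrFun (congrFun h' x) y)))

theorem mG_sg2 [CharP K 2] (i : K →+* L16) (g : Grp K) : mG i (sg2 K g) = sg2 L16 (mG i g) := by
  have h : ((mG i).comp (sg2 K)).eqLocus ((sg2 L16).comp (mG i)) = ⊤ :=
    H51.Tw.eq_top_of_x (Q := QE K) fun r hr t => by
      show mG i (sg2 K (xr r t)) = sg2 L16 (mG i (xr r t))
      rw [sg2_x hr, mG_xr, mG_xr, sg2_x hr, map_pow]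
  exact (h ▸ Subgroup.mem_top g : g ∈ ((mG i).comp (sg2 K)).eqLocus ((sg2 L16).comp (mG i)))

theorem xr_fixed_mem [CharP K 2] (hK : Fintype.card K = 4) {g : Grp K} (hg : sg2 K g = g) :
    (g : GL chevE6.Idx K) ∈ twistedE6 K 2 := by
  have hφ : ∀ t : K, frobenius K 2 t = t ^ 2 := fun t => frobenius_def ..
  have hK2 : Fintype.card K = 2 ^ 2 := hK
  have h : g ∈ fixedPts (E6.endo (frobenius K 2)).σ := hg
  rw [← (E6.model hφ hK2).fixed_eq] at h
  exact h

theorem alt_iso :
    Nonempty (Matrix.SpecialLinearGroup (Fin 4) (ZMod 2) ≃* ↥(alternatingGroup (Fin 8))) :=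
  ⟨(MonoidHom.ofInjective H42.Radical.phi_inj).trans (MulEquiv.subgroupCongr H42.Radical.phi_range)⟩

/-- The centraliser of some element of order five. -/
theorem exists_centralizer (hK : Fintype.card K = 4) :
    ∃ t : ↥(twistedE6 K 2), orderOf t = 5 ∧
      Nonempty (↥(Subgroup.centralizer ({t} : Set ↥(twistedE6 K 2))) ≃*
        Multiplicative (ZMod 5) × ↥(alternatingGroup (Fin 8))) := by
  have := charP_two hK
  obtain ⟨e⟩ := exists_exp
  obtain ⟨i⟩ := exists_hom hK
  obtain ⟨a, ha⟩ := exists_om hK i e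
  set T : GL chevE6.Idx K :=
    ((xr 56 a * xr 36 (a ^ 2) * (xr 15 1 * xr 35 (1 ^ 2)) : Grp K) : GL chevE6.Idx K)
  have hT : T ∈ twistedE6 K 2 := by
    show ((xr 56 a * xr 36 (a ^ 2) * (xr 15 1 * xr 35 (1 ^ 2)) : Grp K) : GL chevE6.Idx K) ∈ _
    rw [Subgroup.coe_mul]
    exact mul_mem (E6.pair_mem (q := 2) (r := 56) (s := 36) (by decide) a)
      (E6.pair_mem (q := 2) (r := 15) (s := 35) (by decide) 1)
  set t : ↥(twistedE6 K 2) := ⟨T, hT⟩
  let inc : ↥(twistedE6 K 2) →* Grp K := Subgroup.inclusion E6.twisted_le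
  set gg := (zt e).gg
  set hh := (zt e).hh
  have htm : mG i (inc t) = gg * hh * gg⁻¹ := by
    show mG i (xr 56 a * xr 36 (a ^ 2) * (xr 15 1 * xr 35 (1 ^ 2))) = _
    rw [eq_mul_inv_iff_mul_eq, (zt e).gg_hh]
    congr 1
    rw [one_pow, map_mul, map_mul, map_mul, mG_xr, mG_xr, mG_xr, mG_xr, map_pow, map_one, ha,
      Zeta.tA, map_mul fr2, fr2_up, fr2_low, one_pow, map_mul, map_mul, psA_up, psA_low, psB_up,
      psB_low]
    have hc : Commute (xr (L := L16) 36 ((zt e).om ^ 2)) (xr 15 1) :=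
      commute_xG (QE L16) cross_ok.2.1 (by simp) (by simp) _ _
    exact hc.mul_mul_mul_comm _ _
  have hinc : Function.Injective ((mG i).comp inc) :=
    (mG_inj i).comp (Subgroup.inclusion_injective E6.twisted_le)
  have ht5 : orderOf t = 5 := by
    rw [← orderOf_injective _ hinc, MonoidHom.comp_apply, htm]
    have : Fact (Nat.Prime 5) := ⟨by norm_num⟩
    rw [← MulAut.conj_apply, MulEquiv.orderOf_eq (MulAut.conj gg)]
    exact orderOf_eq_prime (zt e).hh_pow (zt e).hh_ne
  let Φ : ↥(Subgroup.centralizer ({t} : Set ↥(twistedE6 K 2))) →* Grp L16 :=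
    ((MulAut.conj gg⁻¹).toMonoidHom.comp ((mG i).comp inc)).comp (Subgroup.subtype _)
  have hΦ : ∀ c, Φ c = gg⁻¹ * mG i (inc c.1) * gg := fun c => by
    show MulAut.conj gg⁻¹ (mG i (inc c.1)) = _
    rw [MulAut.conj_apply, inv_inv]
  have hΦD : ∀ c, Φ c ∈ Dset e := by
    intro c
    refine Subgroup.mem_inf.2 ⟨?_, ?_⟩
    · rw [Subgroup.mem_centralizer_singleton_iff, hΦ]
      have hc := congrArg ((mG i).comp inc) (Subgroup.mem_centralizer_singleton_iff.1 c.2)
      simp only [map_mul, MonoidHom.comp_apply, htm] at hc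
      calc gg⁻¹ * mG i (inc c.1) * gg * hh
          = gg⁻¹ * (mG i (inc c.1) * (gg * hh * gg⁻¹)) * gg := by group
        _ = gg⁻¹ * (gg * hh * gg⁻¹ * mG i (inc c.1)) * gg := by rw [hc]
        _ = hh * (gg⁻¹ * mG i (inc c.1) * gg) := by group
    · show sg2 L16 (Φ c) = nn L16 * Φ c * (nn L16)⁻¹
      have hfix : sg2 L16 (mG i (inc c.1)) = mG i (inc c.1) := by
        rw [← mG_sg2]
        exact congrArg (mG i)
          (E6.le_fixed (fun t => frobenius_def ..) (by rw [hK]; rfl) (inc c.1) c.1.2)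
      have hw : psA L16 wm * psA L16 wm = 1 := by
        rw [← map_mul, ← map_one (psA L16)]
        congr 1
        apply Subtype.ext
        rw [sl_mul_val, wm_val]
        simp [Matrix.one_fin_two]
      rw [hΦ, map_mul, map_mul, map_inv, (zt e).sg2_gg, hfix, mul_inv_rev,
        inv_eq_of_mul_eq_one_right hw]
      group
      rfl
  have hΦinj : Function.Injective Φ := fun c d h => by
    rw [hΦ, hΦ] at h
    exact Subtype.ext (hinc (mul_left_cancel (mul_right_cancel h)))
  have hcard : Nat.card ↥(Subgroup.centralizer ({t} : Set ↥(twistedE6 K 2))) ≤ 100800 :=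
    (Nat.card_le_card_of_injective (fun c => (⟨Φ c, hΦD c⟩ : ↥(Dset e)))
      fun c d h => hΦinj (congrArg Subtype.val h)).trans (card_Dset_le e)
  let ρ : ↥(Subgroup.centralizer ({t} : Set ↥(twistedE6 K 2))) →* GL (Fin 4) L16 :=
    MonoidHom.toHomUnits
      (blockM.comp (Φ.codRestrict (stabB L16) fun c => Dset_stab e _ (hΦD c)))
  have hρ : ∀ c g (hg : g ∈ stabB L16), Φ c = g → (ρ c).1 = blockM ⟨g, hg⟩ := fun c g hg h =>
    congrArg blockM (Subtype.ext h)
  obtain ⟨iso⟩ := iso_of_hits e ρ hcard ⟨⟨t, Subgroup.mem_centralizer_singleton_iff.2 rfl⟩, by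
      rw [hρ _ hh (h5_stab e) (by rw [hΦ, htm]; group), blockM_h5]⟩
    (fun j k hjk => by
      obtain ⟨r, hr, hp⟩ := pos12_surj j k hjk
      have hσ : sg2 K (xr r (1 : K)) = xr r 1 := by
        rw [sg2_x (Z12_facts r hr).1, (Z12_facts r hr).2.1, one_pow]
      have hmem := xr_fixed_mem hK hσ
      set c : ↥(twistedE6 K 2) := ⟨_, hmem⟩
      have hcm : mG i (inc c) = xr r 1 :=
        (mG_xr i r (1 : K)).trans (by rw [map_one])
      have hcomm : ∀ s, Commute (xr r (1 : L16)) (psA L16 s) ∧ Commute (xr r (1 : L16)) (psB L16 s) :=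
        fun s => LZ_comm (xr_mem_LZ hr) s
      have hgg : Commute (xr r (1 : L16)) gg := (hcomm _).1.mul_right (hcomm _).2
      have hch : Commute (xr r (1 : L16)) hh := LZ_h5 e (xr_mem_LZ hr)
      have hc : c ∈ Subgroup.centralizer ({t} : Set ↥(twistedE6 K 2)) := by
        refine Subgroup.mem_centralizer_singleton_iff.2 (hinc ?_)
        rw [map_mul, map_mul, MonoidHom.comp_apply, MonoidHom.comp_apply, htm, hcm]
        exact ((hgg.mul_right hch).mul_right hgg.inv_right).eq
      refine ⟨⟨c, hc⟩, ?_⟩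
      rw [hρ _ _ (xr_stab hr) (by rw [hΦ, hcm, mul_assoc, hgg.eq, inv_mul_cancel_left]),
        blockM_xr hr, hp])
  obtain ⟨alt⟩ := alt_iso
  exact ⟨t, ht5, ⟨iso.trans (MulEquiv.prodCongr (MulEquiv.refl _) alt)⟩⟩

end Cfsg.Agent.H77.TwE6Five
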