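import Cfsg.Agent.H77.TwE6Five.Words
import Cfsg.Agent.H37.Twist.E6

/-! In `²E₆(2)` the elements of order five form one conjugacy class: a Sylow subgroup has order 25
and its normaliser is transitive on its elements of order five. -/

set_option autoImplicit false

namespace Cfsg.Agent.H77.TwE6Five

open Cfsg.Lie Cfsg.Agent.H99.E6 Cfsg.Agent.H99.E6.FourTwo

variable {K : Type*} [Field K]

theorem charP_two [Fintype K] (hK : Fintype.card K = 4) : CharP K 2 :=
  have := Fact.mk Nat.prime_two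
  charP_of_card_eq_prime_pow (p := 2) (f := 2) (by rw [hK]; rfl)

theorem card_twisted [Fintype K] (hK : Fintype.card K = 4) :
    Nat.card ↥(twistedE6 K 2) = 76532479683774853939200 := by
  have := charP_two hK
  have h := H37.Twist.E6.card_group (K := K) (φ := frobenius K 2) (q := 2)
    (fun t => by rw [frobenius_def]) (by rw [hK]; rfl)
  norm_num at h
  omega

theorem hu_one (k : Fin 8) : (hu (1 : Kˣ) k : Elem K) = h0 k := by simp [hu, twl, h0]

theorem H0_eq : H0 K = Hu (1 : Kˣ) := by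
  rw [Hu, H0]
  congr 2
  funext k
  exact (hu_one k).symm

theorem W_twisted (w : List (Fin 8)) : psi (W w : Elem K) ∈ twistedE6 K 2 :=
  Hu_le 1 (one_pow 3) ⟨W w, H0_eq (K := K) ▸ W_mem w, rfl⟩

/-- the element of the twisted group given by a word -/
noncomputable def el (w : List (Fin 8)) : ↥(twistedE6 K 2) := ⟨psi (W w : Elem K), W_twisted w⟩

theorem el_append (v w : List (Fin 8)) : (el (v ++ w) : ↥(twistedE6 K 2)) = el v * el w :=
  Subtype.ext (by simp [el, W_append])

theorem el_nil : (el [] : ↥(twistedE6 K 2)) = 1 := Subtype.ext (by simp [el, W])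

theorem el_eq [CharP K 2] {v w : List (Fin 8)} (h : bmat v = bmat w) :
    (el v : ↥(twistedE6 K 2)) = el w :=
  Subtype.ext (congrArg psi (W_eq h))

theorem el_ne [CharP K 2] {v w : List (Fin 8)} (h : diffM (bmat v) (bmat w) = true) :
    (el v : ↥(twistedE6 K 2)) ≠ el w := fun e => by
  have hinj := psi_inj_Hu (K := K) (u := 1) (one_pow 3)
  have := @hinj ⟨W v, H0_eq (K := K) ▸ W_mem v⟩ ⟨W w, H0_eq (K := K) ▸ W_mem w⟩
    (congrArg Subtype.val e)
  exact W_ne h (congrArg Subtype.val this)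

theorem el_replicate (w : List (Fin 8)) : ∀ n,
    (el (List.replicate n w).flatten : ↥(twistedE6 K 2)) = el w ^ n
  | 0 => by simp [el_nil]
  | n + 1 => by rw [List.replicate_succ, List.flatten_cons, el_append, el_replicate w n, pow_succ']

theorem el_wP (a b : ℕ) : (el (wP a b) : ↥(twistedE6 K 2)) = el wu ^ a * el wv ^ b := by
  rw [wP, el_append, el_replicate, el_replicate]

section Five

variable [CharP K 2]

theorem u_pow_five : (el wu : ↥(twistedE6 K 2)) ^ 5 = 1 ∧ (el wv : ↥(twistedE6 K 2)) ^ 5 = 1 := by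
  have h1 := el_eq (K := K) bmat_u5.1
  have h2 := el_eq (K := K) bmat_u5.2
  rw [el_wP, el_nil, pow_zero, mul_one] at h1
  rw [el_wP, el_nil, pow_zero, one_mul] at h2
  exact ⟨h1, h2⟩

theorem uv_comm : Commute (el wu : ↥(twistedE6 K 2)) (el wv) := by
  have h := el_eq (K := K) bmat_comm
  rwa [el_append, el_append] at h

/-- the elementary subgroup of order 25, parametrised -/
noncomputable def five : Multiplicative (ZMod 5 × ZMod 5) →* ↥(twistedE6 K 2) where
  toFun p := el wu ^ p.toAdd.1.val * el wv ^ p.toAdd.2.val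
  map_one' := by simp
  map_mul' p q := by
    have hu := (u_pow_five (K := K)).1
    have hv := (u_pow_five (K := K)).2
    simp only [toAdd_mul, Prod.fst_add, Prod.snd_add, ZMod.val_add]
    rw [← pow_eq_pow_mod _ hu, ← pow_eq_pow_mod _ hv, pow_add, pow_add]
    exact ((uv_comm (K := K)).pow_pow _ _).mul_mul_mul_comm _ _

theorem five_apply (i j : ZMod 5) :
    five (K := K) (Multiplicative.ofAdd (i, j)) = el wu ^ i.val * el wv ^ j.val := rfl

theorem five_injective : Function.Injective (five (K := K)) := by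
  refine (injective_iff_map_eq_one _).2 fun p hp => ?_
  obtain ⟨⟨i, j⟩, rfl⟩ : ∃ q, Multiplicative.ofAdd q = p := ⟨p.toAdd, rfl⟩
  rw [five_apply] at hp
  have hu := (u_pow_five (K := K)).1
  have hv := (u_pow_five (K := K)).2
  have hj : j = 0 := by
    by_contra hj
    obtain ⟨m, hm⟩ := (show ∀ j : ZMod 5, j ≠ 0 → ∃ m : Fin 5, j.val * m.val % 5 = 1 by decide) j hj
    have e : el wv ^ j.val = ((el wu : ↥(twistedE6 K 2)) ^ i.val)⁻¹ :=
      eq_inv_of_mul_eq_one_right hp
    have e2 : (el wv : ↥(twistedE6 K 2)) = (((el wu) ^ i.val)⁻¹) ^ m.val := by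
      rw [← e, ← pow_mul, pow_eq_pow_mod _ hv, hm, pow_one]
    have e3 : ((el wu : ↥(twistedE6 K 2)) ^ i.val)⁻¹ = el wu ^ (4 * i.val) := by
      refine inv_eq_of_mul_eq_one_right ?_
      rw [← pow_add, pow_eq_pow_mod _ hu, show (i.val + 4 * i.val) % 5 = 0 by omega, pow_zero]
    rw [e3, ← pow_mul, pow_eq_pow_mod _ hu] at e2
    refine el_ne (K := K) (bmat_ne.2 ⟨4 * i.val * m.val % 5, Nat.mod_lt _ (by omega)⟩) ?_
    rw [el_wP, pow_zero, mul_one]
    exact e2
  subst hj
  rw [ZMod.val_zero, pow_zero, mul_one] at hp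
  have hi : i = 0 := by
    by_contra hi
    obtain ⟨m, hm⟩ := (show ∀ j : ZMod 5, j ≠ 0 → ∃ m : Fin 5, j.val * m.val % 5 = 1 by decide) i hi
    refine el_ne (K := K) bmat_ne.1 ?_
    rw [el_nil, show (el wu : ↥(twistedE6 K 2)) = el wu ^ (i.val * m.val) by
      rw [pow_eq_pow_mod _ hu, hm, pow_one], pow_mul, hp, one_pow]
  subst hi
  rfl

/-- the action of the normalising elements on exponents -/
def step (k : Fin 3) (p : ZMod 5 × ZMod 5) : ZMod 5 × ZMod 5 :=
  (p.1 * (wh k).2.1.1 + p.2 * (wh k).2.2.1, p.1 * (wh k).2.1.2 + p.2 * (wh k).2.2.2)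

theorem five_step (k : Fin 3) (i j : ZMod 5) :
    el (wh k).1 * five (K := K) (Multiplicative.ofAdd (i, j)) * (el (wh k).1)⁻¹ =
      five (Multiplicative.ofAdd (step k (i, j))) := by
  have key : ∀ (a b : ℕ) (w : List (Fin 8)),
      bmat ((wh k).1 ++ w) = bmat (wP a b ++ (wh k).1) →
      MulAut.conj (el (wh k).1 : ↥(twistedE6 K 2)) (el w) =
        five (Multiplicative.ofAdd ((a : ZMod 5), (b : ZMod 5))) := by
    intro a b w h
    have h' := el_eq (K := K) h
    rw [el_append, el_append, el_wP] at h'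
    rw [MulAut.conj_apply, h', mul_inv_cancel_right, five_apply, ZMod.val_natCast, ZMod.val_natCast,
      ← pow_eq_pow_mod _ (u_pow_five (K := K)).1, ← pow_eq_pow_mod _ (u_pow_five (K := K)).2]
  obtain ⟨h1, h2⟩ := bmat_norm k
  rw [← MulAut.conj_apply, five_apply, map_mul, map_pow, map_pow, key _ _ _ h1, key _ _ _ h2]
  simp only [← map_pow]
  rw [← map_mul]
  congr 1
  rw [← ofAdd_nsmul, ← ofAdd_nsmul, ← ofAdd_add]
  congr 1
  simp [step, nsmul_eq_mul, ZMod.natCast_val, ZMod.cast_id]

/-- exponents reached from `u` -/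
def reach : ℕ → Finset (ZMod 5 × ZMod 5)
  | 0 => {(1, 0)}
  | n + 1 => reach n ∪ Finset.univ.biUnion fun k => (reach n).image (step k)

theorem reach_all : ∀ p : ZMod 5 × ZMod 5, p ≠ 0 → p ∈ reach 12 := by decide +kernel

theorem isConj_reach : ∀ n, ∀ p ∈ reach n,
    IsConj (five (K := K) (Multiplicative.ofAdd (1, 0))) (five (Multiplicative.ofAdd p))
  | 0, p, hp => by rw [reach, Finset.mem_singleton] at hp; rw [hp]
  | n + 1, p, hp => by
    simp only [reach, Finset.mem_union, Finset.mem_biUnion, Finset.mem_image] at hp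
    rcases hp with hp | ⟨k, -, q, hq, rfl⟩
    · exact isConj_reach n p hp
    · exact (isConj_reach n q hq).trans (isConj_iff.2 ⟨el (wh k).1, five_step k q.1 q.2⟩)

end Five

variable [Fintype K]

/-- All elements of order five are conjugate. -/
theorem one_class (hK : Fintype.card K = 4) :
    ∀ x y : ↥(twistedE6 K 2), orderOf x = 5 → orderOf y = 5 → IsConj x y := by
  have := charP_two hK
  have := Fact.mk (show Nat.Prime 5 by norm_num)
  have : Finite ↥(twistedE6 K 2) := inferInstance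
  have hP : Nat.card ↥(five (K := K)).range = 5 ^ 2 := by
    rw [Nat.card_congr (MonoidHom.ofInjective five_injective).symm.toEquiv,
      Nat.card_congr Multiplicative.toAdd, Nat.card_prod, Nat.card_zmod]
    norm_num
  obtain ⟨S, hS⟩ := (IsPGroup.of_card hP).exists_le_sylow
  have hSe : (five (K := K)).range = S.toSubgroup := by
    obtain ⟨m, hm⟩ := IsPGroup.iff_card.1 S.isPGroup'
    refine Subgroup.eq_of_le_of_card_ge hS ?_
    rw [hP, hm]
    refine Nat.pow_le_pow_right (by norm_num) (Nat.le_of_lt_succ ?_)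
    by_contra hlt
    have h1 : 5 ^ 3 ∣ Nat.card S.toSubgroup := hm ▸ pow_dvd_pow 5 (by omega)
    have h2 := h1.trans (Subgroup.card_subgroup_dvd_card S.toSubgroup)
    rw [card_twisted hK] at h2
    norm_num at h2
  suffices ∀ x : ↥(twistedE6 K 2), orderOf x = 5 →
      IsConj (five (K := K) (Multiplicative.ofAdd (1, 0))) x from
    fun x y hx hy => (this x hx).symm.trans (this y hy)
  intro x hx
  have hZ : Nat.card ↥(Subgroup.zpowers x) = 5 ^ 1 := by rw [Nat.card_zpowers, hx, pow_one]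
  obtain ⟨Q, hQ⟩ := (IsPGroup.of_card hZ).exists_le_sylow
  obtain ⟨g, hg⟩ := MulAction.exists_smul_eq ↥(twistedE6 K 2) Q S
  have hmem : g * x * g⁻¹ ∈ (five (K := K)).range := by
    rw [hSe, ← hg, Sylow.coe_subgroup_smul]
    exact ⟨x, hQ (Subgroup.mem_zpowers x), rfl⟩
  obtain ⟨p, hp⟩ := hmem
  have hne : p.toAdd ≠ 0 := fun h0 => by
    have hp1 : p = 1 := h0
    rw [hp1, map_one, eq_comm, mul_inv_eq_one, mul_eq_left] at hp
    rw [hp, orderOf_one] at hx
    norm_num at hx
  exact (isConj_reach 12 p.toAdd (reach_all _ hne)).trans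
    ((hp ▸ isConj_iff.2 ⟨g, rfl⟩ : IsConj x (five p)).symm)

end Cfsg.Agent.H77.TwE6Five
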