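import Cfsg.Agent.H77.TwE6Five.OneClass
import Cfsg.Agent.H51.TwMax.Basic
import Cfsg.Agent.Chevalley.RankOne
import Cfsg.Agent.Chevalley.Functorial

/-! An element of order five of `²E₆(2)` in a twisted subgroup `SL₂(4)`, diagonalised over the field
with sixteen elements. -/

set_option autoImplicit false
set_option maxRecDepth 100000
set_option linter.unusedSectionVars false

namespace Cfsg.Agent.H77.TwE6Five

open Cfsg.Lie Cfsg.Agent.H37 Cfsg.Agent.H37.RootSys Cfsg.Agent.H37.Twist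
open Cfsg.Agent.H87 (upMat lowMat)
open Cfsg.Agent.H54.Presentation (wEl)

abbrev QE (L : Type*) [Field L] : Chev.Data chevE6 L := Chev.dataE6 L

/-- the group -/
abbrev Grp (L : Type*) [Field L] : Type _ := ↥(chevE6.group L)

variable {L : Type*} [Field L]

/-- a root element -/
abbrev xr (r : ℕ) (t : L) : Grp L := xG (QE L).K L r t

variable [CharP L 2]

instance factPrimeTwo : Fact (Nat.Prime 2) := ⟨Nat.prime_two⟩

variable (L) in
/-- the graph automorphism times the Frobenius -/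
noncomputable def sg2 : Grp L →* Grp L := (E6.endo (frobenius L 2)).σ

theorem sg_cast (r : ℕ) : ((Sym.dataE6.sg r : ℤ) : L) = 1 := by
  rcases Sym.Good.sg_pm (T := Sym.dataE6) r with h | h <;> simp [h, CharTwo.neg_eq]

theorem sg2_x {r : ℕ} (hr : r < chevE6.nroots) (t : L) :
    sg2 L (xr r t) = xr (E6.tables.rh r) (t ^ 2) := by
  have hf : (E6.endo (frobenius L 2)).f r t = t ^ 2 := by
    show ((Sym.dataE6.sg r : ℤ) : L) * frobenius L 2 t = _
    rw [sg_cast, one_mul, frobenius_def]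
  refine ((E6.endo (frobenius L 2)).σ_x r hr t).trans ?_
  rw [hf]
  rfl

omit [CharP L 2] in
theorem exists_sl2 {r : ℕ} (hr : r < chevE6.nroots) :
    ∃ ψ : Matrix.SpecialLinearGroup (Fin 2) L →* Grp L,
      (∀ t, ψ (upMat t) = xr r t) ∧ ∀ t, ψ (lowMat t) = xr (chevE6.neg r) t := by
  obtain ⟨φ, hrange, hφ⟩ := (QE L).K.exists_sl2Hom L hr
  have h1 : ∀ t, φ (upMat t) = (QE L).K.xU L r t := fun t => Units.ext
    (((hφ (upMat t) t).1 rfl).trans ((QE L).K.coe_xU L r t).symm)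
  have h2 : ∀ t, φ (lowMat t) = (QE L).K.xU L (chevE6.neg r) t := fun t => Units.ext
    (((hφ (lowMat t) t).2 rfl).trans ((QE L).K.coe_xU L _ t).symm)
  have hmem : ∀ g, φ g ∈ chevE6.group L := by
    have : (⊤ : Subgroup (Matrix.SpecialLinearGroup (Fin 2) L)) ≤ (chevE6.group L).comap φ := by
      rw [← Chevalley.SL2Hom.closure_upMat_lowMat, Subgroup.closure_le]
      rintro _ (⟨t, rfl⟩ | ⟨t, rfl⟩)
      · rw [SetLike.mem_coe, Subgroup.mem_comap, h1]; exact (QE L).K.xU_mem_group L _ _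
      · rw [SetLike.mem_coe, Subgroup.mem_comap, h2]; exact (QE L).K.xU_mem_group L _ _
    exact fun g => this (Subgroup.mem_top g)
  exact ⟨φ.codRestrict _ hmem, fun t => Subtype.ext (h1 t), fun t => Subtype.ext (h2 t)⟩

theorem lt56 : (56 : ℕ) < chevE6.nroots ∧ (36 : ℕ) < chevE6.nroots := by decide

variable (L) in
/-- the subgroup `SL₂` at the root 56 -/
noncomputable def psA : Matrix.SpecialLinearGroup (Fin 2) L →* Grp L :=
  (exists_sl2 (L := L) lt56.1).choose

variable (L) in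
/-- the subgroup `SL₂` at the root 36 -/
noncomputable def psB : Matrix.SpecialLinearGroup (Fin 2) L →* Grp L :=
  (exists_sl2 (L := L) lt56.2).choose

theorem neg5636 : chevE6.neg 56 = 15 ∧ chevE6.neg 36 = 35 := by decide +kernel

theorem psA_up (t : L) : psA L (upMat t) = xr 56 t := (exists_sl2 (L := L) lt56.1).choose_spec.1 t
theorem psA_low (t : L) : psA L (lowMat t) = xr 15 t := by
  rw [← neg5636.1]; exact (exists_sl2 (L := L) lt56.1).choose_spec.2 t
theorem psB_up (t : L) : psB L (upMat t) = xr 36 t := (exists_sl2 (L := L) lt56.2).choose_spec.1 t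
theorem psB_low (t : L) : psB L (lowMat t) = xr 35 t := by
  rw [← neg5636.2]; exact (exists_sl2 (L := L) lt56.2).choose_spec.2 t

omit [CharP L 2] in
/-- homomorphisms agreeing on the two unipotent subgroups are equal -/
theorem sl2_ext {M : Type*} [Monoid M] {f g : Matrix.SpecialLinearGroup (Fin 2) L →* M}
    (h1 : ∀ t, f (upMat t) = g (upMat t)) (h2 : ∀ t, f (lowMat t) = g (lowMat t)) : f = g := by
  refine MonoidHom.eq_of_eqOn_dense Chevalley.SL2Hom.closure_upMat_lowMat ?_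
  rintro _ (⟨t, rfl⟩ | ⟨t, rfl⟩)
  exacts [h1 t, h2 t]

theorem psA_comm_of {y : Grp L} (h1 : ∀ t, Commute y (xr 56 t)) (h2 : ∀ t, Commute y (xr 15 t))
    (g : Matrix.SpecialLinearGroup (Fin 2) L) : Commute y (psA L g) := by
  have h : (⊤ : Subgroup (Matrix.SpecialLinearGroup (Fin 2) L)) ≤
      (Subgroup.centralizer {y}).comap (psA L) := by
    rw [← Chevalley.SL2Hom.closure_upMat_lowMat, Subgroup.closure_le]
    rintro _ (⟨t, rfl⟩ | ⟨t, rfl⟩)
    · rw [SetLike.mem_coe, Subgroup.mem_comap, psA_up, Subgroup.mem_centralizer_singleton_iff]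
      exact (h1 t).eq.symm
    · rw [SetLike.mem_coe, Subgroup.mem_comap, psA_low, Subgroup.mem_centralizer_singleton_iff]
      exact (h2 t).eq.symm
  exact (Subgroup.mem_centralizer_singleton_iff.1 (h (Subgroup.mem_top g))).symm

theorem psB_comm_of {y : Grp L} (h1 : ∀ t, Commute y (xr 36 t)) (h2 : ∀ t, Commute y (xr 35 t))
    (g : Matrix.SpecialLinearGroup (Fin 2) L) : Commute y (psB L g) := by
  have h : (⊤ : Subgroup (Matrix.SpecialLinearGroup (Fin 2) L)) ≤
      (Subgroup.centralizer {y}).comap (psB L) := by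
    rw [← Chevalley.SL2Hom.closure_upMat_lowMat, Subgroup.closure_le]
    rintro _ (⟨t, rfl⟩ | ⟨t, rfl⟩)
    · rw [SetLike.mem_coe, Subgroup.mem_comap, psB_up, Subgroup.mem_centralizer_singleton_iff]
      exact (h1 t).eq.symm
    · rw [SetLike.mem_coe, Subgroup.mem_comap, psB_low, Subgroup.mem_centralizer_singleton_iff]
      exact (h2 t).eq.symm
  exact (Subgroup.mem_centralizer_singleton_iff.1 (h (Subgroup.mem_top g))).symm

theorem cross_ok : commB chevE6 [36, 56] = true ∧ commB chevE6 [15, 36] = true ∧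
    commB chevE6 [35, 56] = true ∧ commB chevE6 [15, 35] = true := by decide +kernel

theorem psA_psB (g g' : Matrix.SpecialLinearGroup (Fin 2) L) :
    Commute (psA L g) (psB L g') := by
  obtain ⟨c1, c2, c3, c4⟩ := cross_ok
  have c := fun {l : List ℕ} (h : commB chevE6 l = true) {r s : ℕ} (hr : r ∈ l) (hs : s ∈ l)
    (t u : L) => commute_xG (QE L) h hr hs t u
  refine (psA_comm_of (fun t => ?_) (fun t => ?_) g).symm
  · refine (psB_comm_of (fun u => ?_) (fun u => ?_) g').symm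
    · exact c c1 (by simp) (by simp) t u
    · exact c c3 (by simp) (by simp) t u
  · refine (psB_comm_of (fun u => ?_) (fun u => ?_) g').symm
    · exact c c2 (by simp) (by simp) t u
    · exact c c4 (by simp) (by simp) t u

/-- the Frobenius on `SL₂` -/
abbrev fr2 : Matrix.SpecialLinearGroup (Fin 2) L →* Matrix.SpecialLinearGroup (Fin 2) L :=
  Matrix.SpecialLinearGroup.map (frobenius L 2)

omit [CharP L 2] in
theorem sl_mul_val (a b : Matrix.SpecialLinearGroup (Fin 2) L) : (a * b).1 = a.1 * b.1 := rfl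

theorem fr2_val (g : Matrix.SpecialLinearGroup (Fin 2) L) :
    (fr2 g).1 = !![g.1 0 0 ^ 2, g.1 0 1 ^ 2; g.1 1 0 ^ 2, g.1 1 1 ^ 2] := by
  ext i j
  fin_cases i <;> fin_cases j <;> exact frobenius_def _ _

theorem fr2_up (t : L) : fr2 (upMat t) = upMat (t ^ 2) := by
  apply Subtype.ext
  rw [fr2_val]
  show _ = !![(1 : L), t ^ 2; 0, 1]
  simp [upMat]

theorem fr2_low (t : L) : fr2 (lowMat t) = lowMat (t ^ 2) := by
  apply Subtype.ext
  rw [fr2_val]
  show _ = !![(1 : L), 0; t ^ 2, 1]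
  simp [lowMat]

theorem rh5636 : E6.tables.rh 56 = 36 ∧ E6.tables.rh 36 = 56 ∧ E6.tables.rh 15 = 35 ∧
    E6.tables.rh 35 = 15 := by decide +kernel

theorem sg2_psA : (sg2 L).comp (psA L) = (psB L).comp fr2 := by
  refine sl2_ext (fun t => ?_) fun t => ?_
  · rw [MonoidHom.comp_apply, MonoidHom.comp_apply, psA_up, fr2_up, psB_up,
      sg2_x (by decide), rh5636.1]
  · rw [MonoidHom.comp_apply, MonoidHom.comp_apply, psA_low, fr2_low, psB_low,
      sg2_x (by decide), rh5636.2.2.1]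

theorem sg2_psB : (sg2 L).comp (psB L) = (psA L).comp fr2 := by
  refine sl2_ext (fun t => ?_) fun t => ?_
  · rw [MonoidHom.comp_apply, MonoidHom.comp_apply, psB_up, fr2_up, psA_up,
      sg2_x (by decide), rh5636.2.1]
  · rw [MonoidHom.comp_apply, MonoidHom.comp_apply, psB_low, fr2_low, psA_low,
      sg2_x (by decide), rh5636.2.2.2]

/-- the diagonal matrix -/
def dm (z : L) : Matrix.SpecialLinearGroup (Fin 2) L := wEl upMat lowMat z * wEl upMat lowMat (-1)

/-- the monomial matrix -/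
def wm : Matrix.SpecialLinearGroup (Fin 2) L := wEl upMat lowMat 1

theorem dm_val {z : L} (hz : z ≠ 0) :
    (dm z : Matrix (Fin 2) (Fin 2) L) = !![z, 0; 0, z⁻¹] := by
  rw [dm, Matrix.SpecialLinearGroup.coe_mul, Chevalley.SL2Hom.wEl_sl2 hz,
    Chevalley.SL2Hom.wEl_sl2 (neg_ne_zero.2 one_ne_zero)]
  simp [CharTwo.neg_eq]

theorem wm_val : (wm : Matrix.SpecialLinearGroup (Fin 2) L).1 = !![0, 1; 1, 0] := by
  refine (Chevalley.SL2Hom.wEl_sl2 one_ne_zero).trans ?_
  simp [CharTwo.neg_eq]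

theorem psA_wEl (z : L) : psA L (wEl upMat lowMat z) = nUG (QE L) 56 z := by
  rw [wEl, map_mul, map_mul, psA_up, psA_low, nUG_eq, neg5636.1]

theorem psB_wEl (z : L) : psB L (wEl upMat lowMat z) = nUG (QE L) 36 z := by
  rw [wEl, map_mul, map_mul, psB_up, psB_low, nUG_eq, neg5636.2]

theorem psA_dm (z : L) : psA L (dm z) = hUG (QE L) 56 z := by
  rw [dm, map_mul, psA_wEl, psA_wEl, hUG_eq]

theorem psB_dm (z : L) : psB L (dm z) = hUG (QE L) 36 z := by
  rw [dm, map_mul, psB_wEl, psB_wEl, hUG_eq]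

theorem psA_wm : psA L wm = nUG (QE L) 56 1 := psA_wEl 1

/-- a primitive fifth root of unity and its matrices -/
structure Zeta (L : Type*) [Field L] where
  z : L
  pow_five : z ^ 5 = 1
  ne_one : z ≠ 1

namespace Zeta

variable (Z : Zeta L)

omit [CharP L 2] in
theorem ne_zero : Z.z ≠ 0 := fun h => by simpa [h] using Z.pow_five

omit [CharP L 2] in
theorem inv_eq : Z.z⁻¹ = Z.z ^ 4 := inv_eq_of_mul_eq_one_right (by rw [← pow_succ', Z.pow_five])

omit [CharP L 2] in
theorem geom : Z.z ^ 4 + Z.z ^ 3 + Z.z ^ 2 + Z.z + 1 = 0 := by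
  have h := mul_eq_zero.1 (show (Z.z - 1) * (Z.z ^ 4 + Z.z ^ 3 + Z.z ^ 2 + Z.z + 1) = 0 by
    linear_combination Z.pow_five)
  exact h.resolve_left (sub_ne_zero.2 Z.ne_one)

/-- the trace -/
def om : L := Z.z + Z.z ^ 4

theorem om_rel : Z.om ^ 2 + Z.om + 1 = 0 := by
  have h2 : (2 : L) = 0 := CharTwo.two_eq_zero
  unfold om
  linear_combination Z.geom + (Z.z ^ 3 + 2) * Z.pow_five + h2

omit [CharP L 2] in
theorem om_pow_three_of (h : Z.om ^ 2 + Z.om + 1 = 0) : Z.om ^ 3 = 1 := by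
  linear_combination (Z.om - 1) * h

/-- the diagonalising matrix -/
def gA : Matrix.SpecialLinearGroup (Fin 2) L :=
  ⟨!![Z.om * (Z.z + 1), Z.om * (Z.z ^ 4 + 1); Z.om, Z.om], by
    have h2 : (2 : L) = 0 := CharTwo.two_eq_zero
    have h3 := Z.om_pow_three_of Z.om_rel
    rw [Matrix.det_fin_two_of]
    unfold om at h3 ⊢
    linear_combination h3 - (Z.z + Z.z ^ 4) ^ 2 * Z.z ^ 4 * h2⟩

/-- the element of order five in `SL₂(4)` -/
def tA : Matrix.SpecialLinearGroup (Fin 2) L := upMat Z.om * lowMat 1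

omit [CharP L 2] in
theorem gA_val [CharP L 2] :
    Z.gA.1 = !![Z.om * (Z.z + 1), Z.om * (Z.z ^ 4 + 1); Z.om, Z.om] := rfl

omit [CharP L 2] in
theorem tA_val : Z.tA.1 = !![1 + Z.om, Z.om; 1, 1] := by
  rw [tA, sl_mul_val]
  show !![(1 : L), Z.om; 0, 1] * !![1, 0; 1, 1] = _
  simp

theorem diag_eq : Z.gA * dm Z.z = Z.tA * Z.gA := by
  have h2 : (2 : L) = 0 := CharTwo.two_eq_zero
  apply Subtype.ext
  rw [sl_mul_val, sl_mul_val, tA_val, gA_val, dm_val Z.ne_zero, Z.inv_eq, Matrix.mul_fin_two,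
    Matrix.mul_fin_two]
  unfold om
  have := Z.pow_five
  ext i j
  fin_cases i <;> fin_cases j <;> simp <;> grind

theorem fr2_gA : fr2 (fr2 Z.gA) = Z.gA * wm := by
  have h2 : (2 : L) = 0 := CharTwo.two_eq_zero
  apply Subtype.ext
  rw [fr2_val, fr2_val, sl_mul_val, wm_val, gA_val, Matrix.mul_fin_two]
  unfold om
  have := Z.pow_five
  ext i j
  fin_cases i <;> fin_cases j <;> simp <;> grind

/-- the conjugating element -/
noncomputable def gg : Grp L := psA L Z.gA * psB L (fr2 Z.gA)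

/-- the diagonal element -/
noncomputable def hh : Grp L := psA L (dm Z.z) * psB L (dm (Z.z ^ 2))

theorem fr2_dm : fr2 (dm Z.z) = dm (Z.z ^ 2) := by
  apply Subtype.ext
  rw [dm_val (pow_ne_zero 2 Z.ne_zero)]
  ext i j
  have e := dm_val Z.ne_zero
  fin_cases i <;> fin_cases j <;>
    simp [Matrix.SpecialLinearGroup.map_apply_coe, e, frobenius_def]

theorem sg2_gg : sg2 L Z.gg = Z.gg * psA L wm := by
  rw [gg, map_mul, ← MonoidHom.comp_apply (sg2 L), ← MonoidHom.comp_apply (sg2 L), sg2_psA, sg2_psB]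
  simp only [MonoidHom.comp_apply]
  rw [Z.fr2_gA, map_mul, ← mul_assoc, ← (psA_psB Z.gA (fr2 Z.gA)).eq]

theorem gg_hh : Z.gg * Z.hh = psA L Z.tA * psB L (fr2 Z.tA) * Z.gg := by
  have c := psA_psB (L := L)
  rw [gg, hh, (c (dm Z.z) (fr2 Z.gA)).symm.mul_mul_mul_comm, ← map_mul, ← map_mul,
    (c Z.gA (fr2 Z.tA)).symm.mul_mul_mul_comm, ← map_mul, ← map_mul, ← Z.fr2_dm,
    ← map_mul fr2, ← map_mul fr2, ← Z.diag_eq]

theorem hh_pow : Z.hh ^ 5 = 1 := by
  have h : ∀ {z : L}, z ^ 5 = 1 → dm z ^ 5 = 1 := fun {z} hz => by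
    have hz0 : z ≠ 0 := fun h => by simp [h] at hz
    apply Subtype.ext
    rw [Matrix.SpecialLinearGroup.coe_pow, dm_val hz0,
      show !![z, 0; 0, z⁻¹] = Matrix.diagonal ![z, z⁻¹] by
        ext i j; fin_cases i <;> fin_cases j <;> simp,
      Matrix.diagonal_pow]
    ext i j
    fin_cases i <;> fin_cases j <;> simp [hz, inv_pow]
  rw [hh, (psA_psB _ _).mul_pow, ← map_pow, ← map_pow, h Z.pow_five,
    h (by rw [← pow_mul, show 2 * 5 = 5 * 2 from rfl, pow_mul, Z.pow_five, one_pow]), map_one, map_one, one_mul]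

theorem dm_conj_up {z : L} (hz : z ≠ 0) (u : L) :
    dm z * upMat u * (dm z)⁻¹ = upMat (z ^ 2 * u) := by
  rw [mul_inv_eq_iff_eq_mul]
  apply Subtype.ext
  rw [sl_mul_val, sl_mul_val, dm_val hz]
  show !![z, 0; 0, z⁻¹] * !![1, u; 0, 1] = !![1, z ^ 2 * u; 0, 1] * !![z, 0; 0, z⁻¹]
  simp only [Matrix.mul_fin_two]
  ext i j
  fin_cases i <;> fin_cases j <;> simp <;> field_simp

theorem hh_ne : Z.hh ≠ 1 := by
  intro h
  have h1 : Z.hh * xr 56 1 * Z.hh⁻¹ = xr 56 (Z.z ^ 2 * 1) := by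
    rw [← psA_up, ← psA_up, hh, mul_inv_rev,
      show psA L (dm Z.z) * psB L (dm (Z.z ^ 2)) * psA L (upMat 1) *
        ((psB L (dm (Z.z ^ 2)))⁻¹ * (psA L (dm Z.z))⁻¹) = psA L (dm Z.z) *
        (psB L (dm (Z.z ^ 2)) * psA L (upMat 1) * (psB L (dm (Z.z ^ 2)))⁻¹) * (psA L (dm Z.z))⁻¹ by group,
      (psA_psB _ _).symm.eq, mul_inv_cancel_right, ← map_inv, ← map_mul, ← map_mul,
      dm_conj_up Z.ne_zero]
  rw [h, one_mul, inv_one, mul_one] at h1
  have h3 := Twist.xG_inj (QE L) (by decide) h1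
  have h4 : Z.z ^ 5 = Z.z := by linear_combination (-(Z.z ^ 3) - Z.z) * h3
  exact Z.ne_one (by rw [← h4, Z.pow_five])

end Zeta

end Cfsg.Agent.H77.TwE6Five
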