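import Cfsg.Agent.H99.E6.FourTwo.Three

/-! `²E₆(2)`: an elementary group of order 25 in the rational copy of `F₄(2)` and three elements
normalising it, checked on bit matrices in the 27-dimensional module. -/

set_option autoImplicit false
set_option maxRecDepth 100000

namespace Cfsg.Agent.H77.TwE6Five

open Matrix Cfsg.Agent.H99.E6 Cfsg.Agent.H99.E6.FourTwo

/-- the odd entries of the matrices of the generators: row, column -/
def gtab : Fin 8 → List (ℕ × ℕ) :=
  ![[(0, 15), (2, 9), (13, 24), (14, 21), (19, 7), (20, 4), (0, 2), (3, 5), (6, 8),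
      (15, 9), (16, 10), (17, 11), (0, 9)],
    [(3, 0), (4, 1), (5, 2), (18, 19), (21, 22), (24, 25), (2, 19), (5, 18), (9, 7),
      (12, 6), (23, 17), (26, 16), (5, 19)],
    [(6, 3), (7, 4), (8, 5), (19, 20), (22, 23), (25, 26)],
    [(1, 22), (4, 21), (10, 8), (16, 6), (20, 14), (26, 12)],
    [(2, 0), (5, 3), (8, 6), (9, 15), (10, 16), (11, 17), (4, 20), (7, 19), (9, 2),
      (15, 0), (21, 14), (24, 13), (9, 0)],
    [(6, 12), (7, 9), (16, 26), (17, 23), (18, 5), (19, 2), (0, 3), (1, 4), (2, 5),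
      (19, 18), (22, 21), (25, 24), (19, 5)],
    [(3, 6), (4, 7), (5, 8), (20, 19), (23, 22), (26, 25)],
    [(6, 16), (8, 10), (12, 26), (14, 20), (21, 4), (22, 1)]]

/-- the odd entries of a sparse matrix -/
def oddL (L : Sp) : List (ℕ × ℕ) :=
  (L.filter fun e => e.2.2 % 2 == 1).map fun e => (e.1.val, e.2.1.val)

theorem gtab_ok : ∀ k : Fin 8, oddL (spOf (gw k)) = gtab k := by decide +kernel

/-- one step on a matrix written as a number with 27 bits for each row -/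
def mstep (l : List (ℕ × ℕ)) (M : ℕ) : ℕ :=
  l.foldr (fun p acc => acc ^^^ (((M >>> (27 * p.2)) &&& (2 ^ 27 - 1)) <<< (27 * p.1))) M

/-- the identity matrix -/
def idM : ℕ := (List.range 27).foldr (fun i acc => acc ^^^ 2 ^ (28 * i)) 0

/-- the matrix of a word -/
def bmat : List (Fin 8) → ℕ
  | [] => idM
  | k :: l => mstep (gtab k) (bmat l)

/-- the first element -/
def wu : List (Fin 8) :=
  [1, 5, 1, 6, 1, 5, 1, 7, 0, 4, 0, 1, 5, 1, 6, 1, 5, 1, 0, 4, 0, 1, 5, 1,
    2, 1, 5, 1, 3, 0, 4, 0, 1, 5, 1, 2, 1, 5, 1, 0, 4, 0]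

/-- the second element -/
def wv : List (Fin 8) :=
  [1, 5, 1, 6, 1, 5, 1, 2, 6, 3, 7, 1, 5, 1, 6, 1, 5, 1, 2, 6, 0, 4, 0, 1,
    5, 1, 2, 1, 5, 1, 0, 4, 0, 3, 2, 1, 5, 1, 6, 1, 5, 1, 7, 0, 4, 0, 1, 5,
    1, 6, 1, 5, 1, 0, 4, 0, 1, 5, 1, 2, 1, 5, 1, 3, 0, 4, 0, 1, 5, 1, 2, 1,
    5, 1, 0, 4, 0, 2, 3, 0, 4, 0, 1, 5, 1, 2, 1, 5, 1, 0, 4, 0, 6, 2, 1, 5,
    1, 6, 1, 5, 1, 7, 3, 6, 2, 1, 5, 1, 6, 1, 5, 1]

/-- a word for `u^a v^b` -/
def wP (a b : ℕ) : List (Fin 8) := (List.replicate a wu).flatten ++ (List.replicate b wv).flatten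

/-- the normalising elements with their action -/
def wh : Fin 3 → List (Fin 8) × (ℕ × ℕ) × (ℕ × ℕ) :=
  ![([2, 3, 0, 4, 0, 1, 5, 1, 2, 1, 5, 1, 0, 4, 0, 3, 6, 2, 7, 3, 1, 5, 1, 6,
    1, 5, 1, 7, 2, 6, 2], (0, 1), (1, 0)),
    ([3, 0, 4, 0, 1, 5, 1, 2, 1, 5, 1, 0, 4, 0, 0, 4, 0, 1, 5, 1, 6, 1, 5, 1,
    0, 4, 0, 1, 5, 1, 6, 1, 5, 1, 0, 4, 0, 1, 5, 1, 2, 1, 5, 1, 0, 4, 0, 3,
    2, 3, 0, 4, 0, 1, 5, 1, 2, 1, 5, 1, 0, 4, 0, 6, 2, 1, 5, 1, 6, 1, 5, 1,
    7, 3, 6, 2, 1, 5, 1, 6, 1, 5, 1], (0, 1), (4, 0)),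
    ([7, 3, 2, 0, 4, 0, 1, 5, 1, 6, 1, 5, 1, 0, 4, 0, 1, 5, 1, 6, 1, 5, 1, 7,
    2, 3, 1, 5, 1, 6, 1, 5, 1, 7, 0, 4, 0, 1, 5, 1, 6, 1, 5, 1, 0, 4, 0, 7,
    0, 4, 0, 1, 5, 1, 6, 1, 5, 1, 0, 4, 0, 7, 6, 2, 3, 1, 5, 1, 2, 1, 5, 1,
    3, 0, 4, 0, 1, 5, 1, 2, 1, 5, 1, 0, 4, 0, 7, 0, 4, 0, 1, 5, 1, 6, 1, 5,
    1, 0, 4, 0, 7, 6, 0, 4, 0, 1, 5, 1], (2, 4), (2, 1))]

theorem bmat_u5 : bmat (wP 5 0) = bmat [] ∧ bmat (wP 0 5) = bmat [] := by decide +kernel

theorem bmat_comm : bmat (wu ++ wv) = bmat (wv ++ wu) := by decide +kernel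

/-- two matrices differ at an entry -/
def diffM (M N : ℕ) : Bool :=
  (List.range 27).any fun i => (List.range 27).any fun c =>
    M.testBit (27 * i + c) != N.testBit (27 * i + c)

theorem bmat_ne : diffM (bmat wu) (bmat []) = true ∧
    ∀ i : Fin 5, diffM (bmat wv) (bmat (wP i.val 0)) = true := by decide +kernel

theorem bmat_norm : ∀ k : Fin 3,
    bmat ((wh k).1 ++ wu) = bmat (wP (wh k).2.1.1 (wh k).2.1.2 ++ (wh k).1) ∧
    bmat ((wh k).1 ++ wv) = bmat (wP (wh k).2.2.1 (wh k).2.2.2 ++ (wh k).1) := by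
  decide +kernel

theorem idM_bit : ∀ i c : Fin 27, idM.testBit (27 * i.val + c.val) = decide (i = c) := by
  decide +kernel

variable {K : Type*} [Field K]

/-- a column of a matrix in the module -/
def colV (c : Fin 27) (M : ℕ) (a : Fin 27) : K := if M.testBit (27 * a.val + c.val) then 1 else 0

theorem colV_xor [CharP K 2] (c : Fin 27) (M N : ℕ) (a : Fin 27) :
    (colV c (M ^^^ N) a : K) = colV c M a + colV c N a := by
  unfold colV
  rw [Nat.testBit_xor]
  cases M.testBit (27 * a.val + c.val) <;> cases N.testBit (27 * a.val + c.val) <;>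
    simp [CharTwo.add_self_eq_zero]

theorem colV_mstep [CharP K 2] (c a : Fin 27) (M : ℕ) : ∀ L : Sp,
    (colV c (mstep (oddL L) M) a : K) = colV c M a + actS L (colV c M) a
  | [] => by simp [mstep, oddL, actS]
  | e :: L => by
    have ih := colV_mstep c a M L
    simp only [mstep, oddL, List.filter_cons] at ih ⊢
    have hbit : ∀ i j : Fin 27,
        (((M >>> (27 * j.val)) &&& (2 ^ 27 - 1)) <<< (27 * i.val)).testBit (27 * a.val + c.val) =
          (decide (i = a) && M.testBit (27 * j.val + c.val)) := by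
      intro i j
      rw [Nat.testBit_shiftLeft, Nat.testBit_and, Nat.testBit_shiftRight, Nat.testBit_two_pow_sub_one]
      have hc := c.isLt
      by_cases h : i = a
      · subst h
        rw [show 27 * i.val + c.val - 27 * i.val = c.val by omega]
        simp [hc, show 27 * i.val + c.val ≥ 27 * i.val by omega]
      · have hne : i.val ≠ a.val := fun h' => h (Fin.ext h')
        simp only [h, decide_false, Bool.false_and]
        by_cases hle : i.val ≤ a.val
        · simp [show ¬(27 * a.val + c.val - 27 * i.val < 27) by omega]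
        · simp [show ¬(27 * a.val + c.val ≥ 27 * i.val) by omega]
    rcases Int.emod_two_eq_zero_or_one e.2.2 with h | h
    · simp only [h, show ((0 : ℤ) == 1) = false from rfl, Bool.false_eq_true, if_false]
      rw [ih]
      by_cases hea : e.1 = a <;> simp [actS, hea, even_cast h]
    · simp only [h, beq_self_eq_true, if_true, List.map_cons, List.foldr_cons]
      rw [colV_xor, ih]
      have hS : (colV c (((M >>> (27 * e.2.1.val)) &&& (2 ^ 27 - 1)) <<< (27 * e.1.val)) a : K) =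
          if e.1 = a then colV c M e.2.1 else 0 := by
        rw [colV, hbit]
        by_cases hea : e.1 = a <;> simp [hea, colV]
      rw [hS]
      by_cases hea : e.1 = a
      · simp [actS, hea, two_eq_zero_cast h]
        ring
      · simp [actS, hea]

/-- the element of a word -/
def W (w : List (Fin 8)) : Elem K := (w.map h0).prod

theorem W_append (v w : List (Fin 8)) : (W (v ++ w) : Elem K) = W v * W w := by simp [W]

theorem W_mem (w : List (Fin 8)) : (W w : Elem K) ∈ H0 K :=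
  Subgroup.list_prod_mem _ fun g hg => by
    obtain ⟨k, -, rfl⟩ := List.mem_map.1 hg
    exact Subgroup.subset_closure ⟨k, rfl⟩

theorem W_act [CharP K 2] (c : Fin 27) : ∀ w : List (Fin 8),
    act (W w : Elem K).1 (Pi.single c 1) = colV c (bmat w)
  | [] => by
    funext a
    rw [show (W [] : Elem K) = 1 by simp [W]]
    simp [colV, bmat, idM_bit, Matrix.one_apply]
  | k :: l => by
    rw [show (W (k :: l) : Elem K) = h0 k * W l by simp [W], Subgroup.coe_mul, act_mul,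
      W_act c l, h0_val, act, gm_val, Matrix.add_mulVec, Matrix.one_mulVec]
    funext a
    rw [Pi.add_apply, toM_mulVec, bmat, ← gtab_ok, colV_mstep]

theorem W_eq [CharP K 2] {v w : List (Fin 8)} (h : bmat v = bmat w) : (W v : Elem K) = W w := by
  refine Subtype.ext (Units.ext (Matrix.ext_of_mulVec_single fun j => ?_))
  have h1 := W_act (K := K) j v
  rw [h, ← W_act (K := K) j w] at h1
  exact h1

theorem W_ne [CharP K 2] {v w : List (Fin 8)} (h : diffM (bmat v) (bmat w) = true) :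
    (W v : Elem K) ≠ W w := by
  intro e
  simp only [diffM, List.any_eq_true, List.mem_range, bne_iff_ne] at h
  obtain ⟨i, hi, c, hc, hne⟩ := h
  have h1 := W_act (K := K) ⟨c, hc⟩ v
  rw [e, W_act] at h1
  have h2 := congrFun h1 ⟨i, hi⟩
  unfold colV at h2
  cases ha : (bmat v).testBit (27 * i + c) <;> cases hb : (bmat w).testBit (27 * i + c) <;> simp_all

end Cfsg.Agent.H77.TwE6Five
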